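import Cfsg.Agent.Lib.TwelveCent.Coding
import Cfsg.Agent.Lib.Golay.Dodecad
import Cfsg.Agent.Lib.Involution.Basic
import Cfsg.Agent.S1875

/-
The centraliser of a 2-central involution of M12 is coded by `cents`.

* `coding_m12`
-/

set_option autoImplicit false

open Cfsg Cfsg.Agent.Golay Cfsg.Agent.MathieuFusion
open scoped Pointwise

namespace Cfsg.Agent.TwelveCent

theorem natCard_twelve : Nat.card ↥Spor.M12 = 95040 :=
  natCard_inf_stabilizer_dodecad (pts_dodecad0 ▸ dodecad0_mem)

/-- The code of a permutation. -/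
def codeOf (g : Equiv.Perm GolayPt) : ℕ := pack (fun i => idx (g (pt i))) 24

theorem rep_codeOf (g : Equiv.Perm GolayPt) : Rep (codeOf g) g := fun p => by
  rw [codeOf, fn_pack (fun i => (idx_lt _).trans (by norm_num)), if_pos (idx_lt p), pt_idx]

theorem canon_codeOf (g : Equiv.Perm GolayPt) : canon (codeOf g) = codeOf g :=
  canon_pack fun i => (idx_lt _).trans (by norm_num)

theorem codeOf_mul (g h : Equiv.Perm GolayPt) : codeOf (g * h) = comp (codeOf g) (codeOf h) := by
  rw [← canon_codeOf, canon_eq_of_rep (rep_codeOf _) (rep_comp (rep_codeOf g) (rep_codeOf h)),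
    canon_comp]

theorem codeOf_injective : Function.Injective codeOf := fun g h e =>
  rep_ext (rep_codeOf g) (rep_codeOf h) e

theorem codeOf_eq_of_rep {d : ℕ} {g : Equiv.Perm GolayPt} (h : Rep d g) (hd : canon d = d) :
    codeOf g = d := by
  rw [← canon_codeOf, canon_eq_of_rep (rep_codeOf g) h, hd]

theorem m12_of_ok {d : ℕ} (hd : isAut d = true) (h : stable d dodecad0 = true) :
    ∃ g : ↥Spor.M12, Rep d (g : Equiv.Perm GolayPt) :=
  ⟨⟨toPerm d, mem_stabilizer_dodecad hd h⟩, rep_toPerm (validPerm_of_isAut hd)⟩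

/-- The chosen involution of M12. -/
noncomputable def zM : ↥Spor.M12 := Classical.choose (m12_of_ok check_zc.1 check_zc.2.1)

theorem rep_zM : Rep zc (zM : Equiv.Perm GolayPt) :=
  Classical.choose_spec (m12_of_ok check_zc.1 check_zc.2.1)

theorem code_zM : codeOf (zM : Equiv.Perm GolayPt) = zc := codeOf_eq_of_rep rep_zM check_zc.2.2.1

theorem orderOf_zM : orderOf zM = 2 := by
  refine orderOf_eq_prime (hp := ⟨Nat.prime_two⟩) ?_ ?_
  · rw [pow_two]
    exact Subtype.ext (rep_ext (rep_comp rep_zM rep_zM) rep_one check_zc.2.2.2.1)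
  · intro e
    have : codeOf (zM : Equiv.Perm GolayPt) = idCode := by
      rw [e]
      exact codeOf_eq_of_rep rep_one canon_idCode
    exact check_zc.2.2.2.2 (code_zM.symm.trans this)

theorem conjGens_spec {k g gi : ℕ} (h : conjGens[k]? = some (g, gi)) :
    ∃ a : ↥Spor.M12, Rep g (a : Equiv.Perm GolayPt) ∧ Rep gi ((a⁻¹ : ↥Spor.M12) : Equiv.Perm GolayPt) := by
  have := List.all_eq_true.1 check_conjGens _ (List.mem_of_getElem? h)
  simp only [Bool.and_eq_true, beq_iff_eq] at this
  obtain ⟨⟨⟨h1, h2⟩, h3⟩, h4⟩ := this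
  obtain ⟨a, ha⟩ := m12_of_ok h1 h2
  refine ⟨a, ha, ?_⟩
  have := rep_inv ha (rep_toPerm h3) h4
  rw [Subgroup.coe_inv, ← this]
  exact rep_toPerm h3

theorem derived_sound : ∀ L : List (ℕ × ℕ × ℕ), derived L = true →
    ∀ d ∈ zc :: L.map Prod.fst, ∃ w : ↥Spor.M12, IsConj zM w ∧ codeOf (w : Equiv.Perm GolayPt) = d
  | [], _ => fun d hd => ⟨zM, IsConj.refl _, by
      rw [code_zM, List.mem_singleton.1 hd]⟩
  | (x, p, k) :: rest, h => by
    simp only [derived, Bool.and_eq_true, Bool.or_eq_true, beq_iff_eq, List.contains_iff_mem] at h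
    obtain ⟨⟨hx, hp⟩, hrest⟩ := h
    intro d hd
    simp only [List.map_cons, List.mem_cons] at hd
    rcases hd with hd | hd | hd
    · exact derived_sound rest hrest d (hd ▸ List.mem_cons_self)
    swap
    · exact derived_sound rest hrest d (List.mem_cons_of_mem _ hd)
    obtain ⟨w, hw, hwc⟩ := derived_sound rest hrest p (List.mem_cons.2 hp)
    split at hx
    next g gi hk =>
      obtain ⟨a, ha, hai⟩ := conjGens_spec hk
      refine ⟨a * w * a⁻¹, hw.trans (isConj_iff.2 ⟨a, rfl⟩), ?_⟩
      rw [hd, beq_iff_eq.1 hx]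
      refine codeOf_eq_of_rep ?_ (canon_comp _ _)
      rw [Subgroup.coe_mul, Subgroup.coe_mul, mul_assoc]
      exact rep_comp ha (rep_comp (hwc ▸ rep_codeOf _) hai)
    next => exact Bool.noConfusion hx

theorem exists_cents {d : ℕ} (hd : d ∈ cents) :
    ∃ a : ↥Spor.M12, Commute a zM ∧ codeOf (a : Equiv.Perm GolayPt) = d := by
  have := List.all_eq_true.1 check_cents d hd
  simp only [Bool.and_eq_true, beq_iff_eq] at this
  obtain ⟨⟨⟨h1, h2⟩, h3⟩, h4⟩ := this
  obtain ⟨a, ha⟩ := m12_of_ok h1 h2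
  exact ⟨a, Subtype.ext (rep_ext (rep_comp ha rep_zM) (rep_comp rep_zM ha) (beq_iff_eq.1 h4)),
    codeOf_eq_of_rep ha h3⟩

theorem card_conjClass_le : 495 ≤ Nat.card {w : ↥Spor.M12 // IsConj zM w} := by
  classical
  haveI := Fintype.ofFinite ↥Spor.M12
  obtain ⟨hnd, hlen⟩ := check_conjs_nodup
  have hs := derived_sound conjs check_conjs_derived
  rw [Nat.card_eq_fintype_card, Fintype.card_subtype, ← hlen, ← List.toFinset_card_of_nodup hnd]
  refine Finset.card_le_card_of_surjOn
    (fun w : ↥Spor.M12 => codeOf (w : Equiv.Perm GolayPt)) fun d hd => ?_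
  obtain ⟨w, hw, hwd⟩ := hs d (by simpa using hd)
  exact ⟨w, by simpa using hw, hwd⟩

theorem coding_zM : Nonempty (Coding zM) := by
  classical
  set C := Subgroup.centralizer ({zM} : Set ↥Spor.M12) with hC
  have hmul : Nat.card {w : ↥Spor.M12 // IsConj zM w} * Nat.card C = 95040 := by
    rw [← natCard_twelve]
    exact S1875.class_card_mul zM
  have hle : Nat.card C ≤ 192 := by
    have := Nat.mul_le_mul_right (Nat.card C) card_conjClass_le
    omega
  choose a ha hac using fun d : {d // d ∈ cents} => exists_cents d.2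
  let F : {d // d ∈ cents} → C := fun d => ⟨a d, Subgroup.mem_centralizer_singleton_iff.2 (ha d)⟩
  have hF : Function.Injective F := fun d e h => Subtype.ext (by
    rw [← hac d, ← hac e, show a d = a e from congrArg Subtype.val h])
  have hcard : Nat.card {d // d ∈ cents} = 192 := by
    rw [← List.toFinset_card_of_nodup check_cents_nodup.1 |>.trans check_cents_nodup.2,
      Nat.subtype_card cents.toFinset (fun _ => List.mem_toFinset)]
  haveI : Finite {d // d ∈ cents} := Nat.finite_of_card_ne_zero (by rw [hcard]; norm_num)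
  haveI := Fintype.ofFinite C
  haveI := Fintype.ofFinite {d // d ∈ cents}
  have hbij : Function.Bijective F := (Fintype.bijective_iff_injective_and_card F).2 ⟨hF, by
    have h := Nat.card_le_card_of_injective F hF
    rw [hcard] at h
    rw [← Nat.card_eq_fintype_card, ← Nat.card_eq_fintype_card, hcard]
    omega⟩
  refine ⟨⟨fun g => codeOf (g : Equiv.Perm GolayPt), fun g hg => ?_,
    fun g h _ _ => codeOf_mul _ _, fun g h _ _ e => Subtype.ext (codeOf_injective e),
    fun d hd => exists_cents hd, code_zM⟩⟩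
  obtain ⟨d, hd⟩ := hbij.2 ⟨g, Subgroup.mem_centralizer_singleton_iff.2 hg⟩
  rw [show g = a d from (congrArg Subtype.val hd).symm]
  show codeOf (a d : Equiv.Perm GolayPt) ∈ cents
  rw [hac d]
  exact d.2

/-- The centraliser of a 2-central involution of M12 has the coding. -/
theorem coding_m12 (u : ↥Spor.M12) (hu : IsTwoCentralInvolution u) : Nonempty (Coding u) := by
  classical
  haveI := Fact.mk Nat.prime_two
  obtain ⟨hu2, P, huP, hcent⟩ := hu
  obtain ⟨hmem, hrep, hcard⟩ := poly_sound sylGens check_sylGens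
  have hle : gperm sylGens ≤ Spor.M12 := by
    refine (Subgroup.closure_le _).2 ?_
    rintro g ⟨x, hx, hg⟩
    have := List.all_eq_true.1 check_sylGens_aut x hx
    simp only [Bool.and_eq_true] at this
    rw [rep_unique hg (rep_toPerm (validPerm_of_isAut this.1))]
    exact mem_stabilizer_dodecad this.1 this.2
  set S := (gperm sylGens).subgroupOf Spor.M12 with hS
  have hScard : Nat.card S = 2 ^ 6 := by
    rw [Nat.card_congr (Subgroup.subgroupOfEquivOfLe hle).toEquiv, hcard]
    rfl
  have hfac : (Nat.card ↥Spor.M12).factorization 2 = 6 := by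
    rw [natCard_twelve, Nat.factorization_def _ Nat.prime_two]
    have h := padicValNat.eq_zero_of_not_dvd (p := 2) (n := 1485) (by norm_num)
    rw [show 95040 = 2 ^ 6 * 1485 by norm_num, padicValNat.mul (by norm_num) (by norm_num),
      padicValNat.prime_pow, h]
  let Q : Sylow 2 ↥Spor.M12 := Sylow.ofCard S (by rw [hfac]; exact hScard)
  have hQ : (Q : Subgroup ↥Spor.M12) = S := Sylow.coe_ofCard ..
  obtain ⟨m, hm⟩ := MulAction.exists_smul_eq ↥Spor.M12 P Q
  set w := m * u * m⁻¹ with hw
  have hwQ : w ∈ (Q : Subgroup ↥Spor.M12) := by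
    rw [← hm, Sylow.coe_subgroup_smul]
    exact ⟨u, huP, rfl⟩
  have hwS : ∀ s ∈ S, Commute s w := by
    intro s hs
    rw [← hQ, ← hm, Sylow.coe_subgroup_smul] at hs
    obtain ⟨x, hx, rfl⟩ := hs
    have hxu : Commute x u := hcent x hx
    show Commute (m * x * m⁻¹) (m * u * m⁻¹)
    exact (SemiconjBy.conj_iff (a := x)).2 hxu
  rw [hQ] at hwQ
  obtain ⟨d, hd, hdr⟩ := (hmem _).1 (Subgroup.mem_subgroupOf.1 hwQ)
  have hsy := check_sylList
  simp only [Bool.and_eq_true] at hsy
  have hcd := List.all_eq_true.1 check_sylCentre d hd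
  have hall : (sylList.all fun e => comm d e) = true := by
    refine List.all_eq_true.2 fun e he => ?_
    obtain ⟨s, hsr⟩ := hrep e he
    have hsm : s ∈ gperm sylGens := (hmem s).2 ⟨e, he, hsr⟩
    have hc := (hwS ⟨s, hle hsm⟩ (Subgroup.mem_subgroupOf.2 hsm)).eq
    have hc' := congrArg (fun x : ↥Spor.M12 => codeOf (x : Equiv.Perm GolayPt)) hc
    simp only [Subgroup.coe_mul, codeOf_mul] at hc'
    rw [comm, beq_iff_eq]
    rw [codeOf_eq_of_rep hsr (canon_of_mem_elts _ _ he),
      codeOf_eq_of_rep hdr (canon_of_mem_elts _ _ hd)] at hc'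
    exact hc'.symm
  rw [hall, Bool.or_eq_true, Bool.or_eq_true, beq_iff_eq, beq_iff_eq] at hcd
  have hw2 : orderOf w = 2 := by rw [hw, Involution.orderOf_conj, hu2]
  have hwz : w = zM := by
    rcases hcd with (h | h) | h
    · exact absurd h Bool.false_ne_true
    · exfalso
      have : (w : Equiv.Perm GolayPt) = 1 := rep_ext hdr rep_one h
      rw [Subtype.ext (a1 := w) (a2 := 1) this, orderOf_one] at hw2
      omega
    · exact Subtype.ext (rep_ext hdr rep_zM h)
  obtain ⟨c⟩ := coding_zM
  refine c.of_iso hu2 ?_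
  have hmap : (Subgroup.centralizer ({u} : Set ↥Spor.M12)).map (MulAut.conj m : ↥Spor.M12 ≃* ↥Spor.M12).toMonoidHom =
      Subgroup.centralizer ({zM} : Set ↥Spor.M12) := by
    ext x
    rw [Subgroup.mem_map_equiv, Subgroup.mem_centralizer_singleton_iff,
      Subgroup.mem_centralizer_singleton_iff, MulAut.conj_symm_apply, ← hwz, hw]
    show Commute (m⁻¹ * x * m) u ↔ Commute x (m * u * m⁻¹)
    conv_rhs => rw [show x = m * (m⁻¹ * x * m) * m⁻¹ by group]
    exact SemiconjBy.conj_iff.symm
  exact ((MulAut.conj m).subgroupMap _).trans (MulEquiv.subgroupCongr hmap)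

end Cfsg.Agent.TwelveCent
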