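import Cfsg.Agent.S3277
import Cfsg.Agent.S1875
import Cfsg.Agent.Lib.Involution.Basic

/-
A four group that is the centraliser of each of its involutions.

* `klein_cases` : the order is 4, 12 or 60 with 3, 3 or 15 involutions
-/

set_option autoImplicit false

open Cfsg Subgroup

namespace Cfsg.Agent.TwelveCent

theorem altFive_invol : Fintype.card {x : alternatingGroup (Fin 5) // x ≠ 1 ∧ x * x = 1} = 15 := by
  decide +kernel

variable {K : Type*} [Group K] [Finite K]

theorem card_invol_of_normal {V : Subgroup K} [V.Normal] (hV : Nat.card V = 4)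
    (hsq : ∀ a ∈ V, a * a = 1) (hpow : (Nat.card K).factorization 2 = 2) :
    Nat.card {x : K // orderOf x = 2} = 3 := by
  classical
  haveI := Fact.mk Nat.prime_two
  let P : Sylow 2 K := Sylow.ofCard V (by rw [hpow]; exact hV)
  have hPV : (P : Subgroup K) = V := Sylow.coe_ofCard ..
  have hmem : ∀ x : K, orderOf x = 2 ↔ x ∈ (V : Set K) \ {1} := by
    refine fun x => ⟨fun hx => ⟨?_, Involution.ne_one hx⟩,
      fun h => Involution.orderOf_of_sq (hsq x h.1) h.2⟩
    obtain ⟨Q, hQ⟩ := (IsPGroup.of_card (p := 2) (G := zpowers x) (n := 1)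
      (by rw [Nat.card_zpowers, hx, pow_one])).exists_le_sylow
    obtain ⟨g, hg⟩ := MulAction.exists_smul_eq K Q P
    have h : g * x * g⁻¹ ∈ V := by
      rw [← hPV, ← hg, Sylow.coe_subgroup_smul]
      exact ⟨x, hQ (mem_zpowers x), rfl⟩
    have h2 := Normal.conj_mem (inferInstance : V.Normal) _ h g⁻¹
    rwa [show g⁻¹ * (g * x * g⁻¹) * g⁻¹⁻¹ = x by group] at h2
  rw [Nat.card_congr (Equiv.subtypeEquivRight hmem)]
  show Nat.card ↥((V : Set K) \ {1}) = 3
  rw [Nat.card_coe_set_eq,
    Set.ncard_sdiff_singleton_of_mem (one_mem V), ← Nat.card_coe_set_eq]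
  simp only [SetLike.coe_sort_coe]
  omega

/-- A finite group with a four group, of index odd, equal to the centraliser of each of its
involutions. -/
theorem klein_cases {V : Subgroup K} (hV : Nat.card V = 4) (hsq : ∀ a ∈ V, a * a = 1)
    (h8 : ¬ 8 ∣ Nat.card K) (hcent : ∀ a ∈ V, a ≠ 1 → centralizer ({a} : Set K) = V) :
    (Nat.card K = 4 ∧ Nat.card {x : K // orderOf x = 2} = 3) ∨
      (Nat.card K = 12 ∧ Nat.card {x : K // orderOf x = 2} = 3) ∨
      (Nat.card K = 60 ∧ Nat.card {x : K // orderOf x = 2} = 15) := by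
  classical
  haveI := Fact.mk Nat.prime_two
  obtain ⟨v, hv, hv1⟩ : ∃ v ∈ V, v ≠ 1 := by
    by_contra h
    push Not at h
    rw [(eq_bot_iff_forall V).2 h, card_bot] at hV
    omega
  have hvo : orderOf v = 2 := Involution.orderOf_of_sq (hsq v hv) hv1
  have hd4 : 4 ∣ Nat.card K := hV ▸ V.card_subgroup_dvd_card
  have hpow : (Nat.card K).factorization 2 = 2 := by
    have h2 : 2 ≤ (Nat.card K).factorization 2 :=
      (Nat.prime_two.pow_dvd_iff_le_factorization Nat.card_pos.ne').1 (by simpa using hd4)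
    have h3 : ¬ 3 ≤ (Nat.card K).factorization 2 := fun h =>
      h8 (by simpa using (Nat.prime_two.pow_dvd_iff_le_factorization Nat.card_pos.ne').2 h)
    omega
  -- when `V` is normal
  have hnormal : V.Normal → (Nat.card K = 4 ∧ Nat.card {x : K // orderOf x = 2} = 3) ∨
      (Nat.card K = 12 ∧ Nat.card {x : K // orderOf x = 2} = 3) := by
    intro hn
    have h3 := card_invol_of_normal hV hsq hpow
    have hcls := S1875.class_card_mul v
    rw [show Nat.card (centralizer ({v} : Set K)) = 4 by rw [hcent v hv hv1, hV]] at hcls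
    have hle : Nat.card {a : K // IsConj v a} ≤ 3 := h3 ▸ Nat.card_le_card_of_injective
      (fun a => (⟨a.1, (Involution.orderOf_eq_of_isConj a.2).symm.trans hvo⟩ : {x : K // orderOf x = 2}))
      (fun a b h => Subtype.ext (congrArg Subtype.val h :))
    have hpos : 0 < Nat.card K := Nat.card_pos
    generalize Nat.card {a : K // IsConj v a} = m at hcls hle
    interval_cases m <;> first | omega | exact absurd ⟨1, by omega⟩ h8
  by_cases hnc : Cfsg.HasNormalPComplement 2 K
  · obtain ⟨P, N, hN, hc⟩ := hnc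
    have hPc : Nat.card (P : Subgroup K) = 4 := by rw [Sylow.card_eq_multiplicity, hpow]; rfl
    have hmul := hc.card_mul
    rw [hPc] at hmul
    have hodd : ¬ 2 ∣ Nat.card N := fun ⟨m, hm⟩ => h8 ⟨m, by rw [← hmul, hm]; ring⟩
    have hfix : ∀ a ∈ V, a ≠ 1 → ∀ x ∈ N, Commute x a → x = 1 := by
      intro a ha ha1 x hx hxa
      have hxV : x ∈ V := hcent a ha ha1 ▸ mem_centralizer_singleton_iff.2 hxa
      by_contra hx1
      exact hodd (Involution.orderOf_of_sq (hsq x hxV) hx1 ▸ Subgroup.orderOf_dvd_natCard _ hx)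
    have hinv : ∀ a ∈ V, a ≠ 1 → ∀ x ∈ N, a * x * a⁻¹ = x⁻¹ := by
      intro a ha ha1 x hx
      let φ : N → N := fun q => ⟨(q : K)⁻¹ * (a * q * a⁻¹),
        N.mul_mem (N.inv_mem q.2) (hN.conj_mem _ q.2 a)⟩
      have hinj : Function.Injective φ := by
        intro p q h
        have h' : (p : K)⁻¹ * (a * p * a⁻¹) = (q : K)⁻¹ * (a * q * a⁻¹) := congrArg Subtype.val h
        have key : a * ((p : K) * (q : K)⁻¹) * a⁻¹ = (p : K) * (q : K)⁻¹ := by
          calc a * ((p : K) * (q : K)⁻¹) * a⁻¹
              = (p : K) * ((p : K)⁻¹ * (a * p * a⁻¹)) * (a * q * a⁻¹)⁻¹ := by group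
            _ = (p : K) * ((q : K)⁻¹ * (a * q * a⁻¹)) * (a * q * a⁻¹)⁻¹ := by rw [h']
            _ = (p : K) * (q : K)⁻¹ := by group
        exact Subtype.ext (mul_inv_eq_one.1 (hfix a ha ha1 _ (N.mul_mem p.2 (N.inv_mem q.2))
          (mul_inv_eq_iff_eq_mul.1 key).symm))
      obtain ⟨q, hq⟩ := (Finite.injective_iff_surjective.1 hinj) ⟨x, hx⟩
      have hq' : (q : K)⁻¹ * (a * q * a⁻¹) = x := congrArg Subtype.val hq
      have hai : a⁻¹ = a := inv_eq_of_mul_eq_one_right (hsq a ha)
      rw [← hq', hai, mul_inv_rev, mul_inv_rev, mul_inv_rev, inv_inv, hai]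
      simp only [mul_assoc, hsq a ha, mul_one]
    have hNbot : N = ⊥ := by
      refine (eq_bot_iff_forall N).2 fun x hx => ?_
      obtain ⟨b, hb, hb1, hbv⟩ : ∃ b ∈ V, b ≠ 1 ∧ b ≠ v := by
        by_contra h
        push Not at h
        have hsub : (V : Set K) ⊆ {1, v} := fun b hb => by
          by_cases e : b = 1
          · exact e ▸ Set.mem_insert _ _
          · exact Set.mem_insert_of_mem _ (h b hb e)
        have hle := Set.ncard_le_ncard hsub (Set.toFinite _)
        rw [← Nat.card_coe_set_eq] at hle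
        simp only [SetLike.coe_sort_coe] at hle
        have := Set.ncard_insert_le (1 : K) {v}
        rw [Set.ncard_singleton] at this
        omega
      have hvb : v * b ≠ 1 := fun e => hbv
        (((eq_inv_of_mul_eq_one_right e).trans (inv_eq_of_mul_eq_one_right (hsq v hv))))
      refine hfix (v * b) (V.mul_mem hv hb) hvb x hx ?_
      have : v * b * x * (v * b)⁻¹ = x := by
        rw [show v * b * x * (v * b)⁻¹ = v * (b * x * b⁻¹) * v⁻¹ by group, hinv b hb hb1 x hx,
          hinv v hv hv1 _ (N.inv_mem hx), inv_inv]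
      exact (mul_inv_eq_iff_eq_mul.1 this).symm
    rw [hNbot, card_bot, one_mul] at hmul
    exact (hnormal ((V.eq_top_of_card_eq (hV.trans hmul)) ▸ inferInstance)).imp_right Or.inl
  by_cases hne : ∀ E : Subgroup K, E.Normal → Cfsg.IsElementaryAbelian 2 E →
      Nat.card E ≠ 2 ∧ Nat.card E ≠ 4
  · obtain ⟨e⟩ := S3277.result v hvo (by rw [hcent v hv hv1, hV])
      (fun c hc => by rw [pow_two]; exact hsq c (hcent v hv hv1 ▸ hc)) hnc hne
    refine .inr (.inr ⟨?_, ?_⟩)
    · rw [Nat.card_congr e.toEquiv, nat_card_alternatingGroup, Nat.card_fin]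
      rfl
    · rw [← altFive_invol, ← Nat.card_eq_fintype_card]
      refine Nat.card_congr (Equiv.subtypeEquiv e.toEquiv fun x => ?_)
      rw [Involution.orderOf_eq_two_iff]
      show x ≠ 1 ∧ x * x = 1 ↔ e x ≠ 1 ∧ e x * e x = 1
      rw [← _root_.map_mul, MulEquiv.map_ne_one_iff, MulEquiv.map_eq_one_iff]
  push Not at hne
  obtain ⟨E, hEn, hEe, hEc⟩ := hne
  by_cases h2 : Nat.card E = 2
  · obtain ⟨e, he, he1⟩ : ∃ e ∈ E, e ≠ 1 := by
      by_contra h
      push Not at h
      rw [(eq_bot_iff_forall E).2 h, card_bot] at h2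
      omega
    have hfixe : ∀ g : K, Commute g e := by
      intro g
      have hm := hEn.conj_mem e he g
      by_contra hne'
      have hs : ({1, e, g * e * g⁻¹} : Set K).ncard = 3 := Set.ncard_eq_three.2
        ⟨1, e, g * e * g⁻¹, he1.symm, fun h => he1 (conj_eq_one_iff.1 h.symm),
          fun h => hne' (mul_inv_eq_iff_eq_mul.1 h.symm), rfl⟩
      have hle := Set.ncard_le_ncard (s := ({1, e, g * e * g⁻¹} : Set K)) (t := (E : Set K))
        (by simp [Set.insert_subset_iff, he, hm]) (Set.toFinite _)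
      rw [hs, ← Nat.card_coe_set_eq] at hle
      simp only [SetLike.coe_sort_coe] at hle
      omega
    have heV : e ∈ V := hcent v hv hv1 ▸ mem_centralizer_singleton_iff.2 (hfixe v).symm
    have htop : V = ⊤ := top_le_iff.1 fun g _ =>
      hcent e heV he1 ▸ mem_centralizer_singleton_iff.2 (hfixe g)
    exact (hnormal (htop ▸ inferInstance)).imp_right Or.inl
  · have hE4 : Nat.card E = 4 := hEc h2
    let P : Sylow 2 K := Sylow.ofCard V (by rw [hpow]; exact hV)
    let Q : Sylow 2 K := Sylow.ofCard E (by rw [hpow]; exact hE4)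
    obtain ⟨g, hg⟩ := MulAction.exists_smul_eq K Q P
    have hVE : V = E := by
      have h := congrArg (fun T : Sylow 2 K => (T : Subgroup K)) hg
      simp only [Sylow.coe_subgroup_smul, P, Q, Sylow.coe_ofCard] at h
      rw [← h]
      exact Normal.conj_smul_eq_self g E
    exact (hnormal (hVE ▸ hEn)).imp_right Or.inl

end Cfsg.Agent.TwelveCent
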