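import Cfsg.Agent.Lib.TwelveCent.Coding
import Cfsg.Agent.Lib.Involution.Basic
import Cfsg.Agent.S1875

/-
The centraliser of `z` coded by `cents`: its involutions and their centralisers.

* `Typ z n x` : `x` is an involution other than `z` centralising `z`, with `n` elements of
  `C(z)` centralising it
* `cent_card`, `sylow`, `split`, `typ_count`, `typ_conj`, `r_comm`, `r_inv`, `t_cent`, `p_mul`,
  `pairs`, `hits_count`, `three`
-/

set_option autoImplicit false

open Cfsg Cfsg.Agent.MathieuFusion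

namespace Cfsg.Agent.TwelveCent

variable {G : Type*} [Group G] [Finite G] {z : G}

/-- The elements centralising both. -/
def pcent (z x : G) : Subgroup G :=
  Subgroup.centralizer ({z} : Set G) ⊓ Subgroup.centralizer ({x} : Set G)

/-- An involution of the centraliser of `z`, other than `z`, with joint centraliser of order `n`. -/
def Typ (z : G) (n : ℕ) (x : G) : Prop :=
  Commute x z ∧ orderOf x = 2 ∧ x ≠ z ∧ Nat.card (pcent z x) = n

omit [Finite G] in
theorem mem_pcent {z x a : G} : a ∈ pcent z x ↔ Commute a z ∧ Commute a x :=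
  and_congr Subgroup.mem_centralizer_singleton_iff Subgroup.mem_centralizer_singleton_iff

omit [Finite G] in
theorem card_pcent (z x : G) :
    Nat.card (pcent z x) = {a | Commute a z ∧ Commute a x}.ncard := by
  rw [← Nat.card_coe_set_eq]
  exact Nat.card_congr (Equiv.subtypeEquivRight fun a => mem_pcent)

omit [Finite G] in
theorem ncard_eq_card (P : G → Prop) : Nat.card {a // P a} = {a | P a}.ncard :=
  Nat.card_coe_set_eq _

namespace Coding

variable (c : Coding z)
include c

theorem isInv_iff {a : G} (ha : Commute a z) : isInv (c.f a) = true ↔ orderOf a = 2 := by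
  rw [isInv, Bool.and_eq_true, beq_iff_eq, bne_iff_ne, ← c.map_mul a a ha ha, ne_eq,
    c.eq_one_iff (ha.mul_left ha), c.eq_one_iff ha, Involution.orderOf_eq_two_iff, and_comm]

theorem z_ord : orderOf z = 2 := by
  rw [← c.isInv_iff (Commute.refl z), c.map_z]
  decide +kernel

theorem cnum_eq {x : G} (hx : Commute x z) : cnum (c.f x) = Nat.card (pcent z x) := by
  rw [card_pcent]
  exact (c.ncard_eq (fun a => Commute a x) (fun d => comm d (c.f x))
    fun a ha => (c.comm_iff ha hx).symm).symm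

theorem cent_card : Nat.card (Subgroup.centralizer ({z} : Set G)) = 192 := by
  have h := c.ncard_eq (fun _ => True) (fun _ => true) fun _ _ => by simp
  rw [List.countP_true, check_cents_nodup.2] at h
  rw [← h, ← Nat.card_coe_set_eq]
  exact Nat.card_congr (Equiv.subtypeEquivRight fun a =>
    ⟨fun ha => ⟨Subgroup.mem_centralizer_singleton_iff.1 ha, trivial⟩,
      fun ha => Subgroup.mem_centralizer_singleton_iff.2 ha.1⟩)

theorem typ_iff {n : ℕ} {L : List ℕ}
    (hL : cents.filter (fun x => isInv x && x != zc && cnum x == n) = L) {x : G}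
    (hx : Commute x z) : Typ z n x ↔ c.f x ∈ L := by
  rw [← hL, List.mem_filter, Bool.and_eq_true, Bool.and_eq_true, bne_iff_ne, beq_iff_eq,
    c.isInv_iff hx, c.cnum_eq hx, ne_eq, c.eq_z_iff hx]
  exact ⟨fun h => ⟨c.mem x hx, ⟨h.2.1, h.2.2.1⟩, h.2.2.2⟩,
    fun h => ⟨hx, h.2.1.1, h.2.1.2, h.2.2⟩⟩

theorem p_iff {x : G} (hx : Commute x z) : Typ z 32 x ↔ c.f x ∈ pList :=
  c.typ_iff check_pList.1 hx

theorem r_iff {x : G} (hx : Commute x z) : Typ z 16 x ↔ c.f x ∈ rList :=
  c.typ_iff check_rList.1 hx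

theorem t_iff {x : G} (hx : Commute x z) : Typ z 8 x ↔ c.f x ∈ tList :=
  c.typ_iff check_tList.1 hx

theorem typ_count {n : ℕ} {L : List ℕ}
    (hL : cents.filter (fun x => isInv x && x != zc && cnum x == n) = L) :
    {x | Typ z n x}.ncard = L.length := by
  have h := c.ncard_eq (Typ z n) (fun x => isInv x && x != zc && cnum x == n) fun a ha => by
    rw [c.typ_iff rfl ha, List.mem_filter]
    exact and_iff_right (c.mem a ha)
  rw [List.countP_eq_length_filter, hL] at h
  rw [← h]
  exact congrArg Set.ncard (Set.ext fun x => ⟨fun hx => ⟨hx.1, hx⟩, fun hx => hx.2⟩)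

/-- Every involution of the centraliser is `z` or of one of the three types. -/
theorem split {x : G} (hx : Commute x z) (h2 : orderOf x = 2) :
    x = z ∨ Typ z 32 x ∨ Typ z 16 x ∨ Typ z 8 x := by
  by_cases hz : x = z
  · exact .inl hz
  refine .inr ?_
  have h := List.all_eq_true.1 check_split _ (c.mem x hx)
  have hi : isInv (c.f x) = true := (c.isInv_iff hx).2 h2
  have hne : (c.f x != zc) = true := bne_iff_ne.2 fun e => hz ((c.eq_z_iff hx).1 e)
  simp only [hi, hne, Bool.and_self, Bool.not_true, Bool.false_or, Bool.or_eq_true,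
    List.contains_iff_mem] at h
  rw [c.p_iff hx, c.r_iff hx, c.t_iff hx, ← or_assoc]
  exact h

/-- Two elements of the same type are conjugate in the centraliser. -/
theorem typ_conj_aux {n k : ℕ} (hk : {x | Typ z n x}.ncard = k) (hn : k * n = 192)
    {x y : G} (hx : Typ z n x) (hy : Typ z n y) : ∃ g, Commute g z ∧ g * x * g⁻¹ = y := by
  classical
  set C := Subgroup.centralizer ({z} : Set G) with hC
  let x' : C := ⟨x, Subgroup.mem_centralizer_singleton_iff.2 hx.1⟩
  have hcx : Nat.card (Subgroup.centralizer ({x'} : Set C)) = n := by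
    rw [← hx.2.2.2]
    refine Nat.card_congr ?_
    exact
      { toFun := fun a => ⟨(a.1 : G), mem_pcent.2 ⟨Subgroup.mem_centralizer_singleton_iff.1 a.1.2,
          congrArg Subtype.val (Subgroup.mem_centralizer_singleton_iff.1 a.2)⟩⟩
        invFun := fun a => ⟨⟨a.1, Subgroup.mem_centralizer_singleton_iff.2 (mem_pcent.1 a.2).1⟩,
          Subgroup.mem_centralizer_singleton_iff.2 (Subtype.ext (mem_pcent.1 a.2).2)⟩
        left_inv := fun a => rfl
        right_inv := fun a => rfl }
  have hmul := S1875.class_card_mul x'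
  rw [hcx, c.cent_card] at hmul
  have hn0 : 0 < n := Nat.pos_of_ne_zero (by rintro rfl; omega)
  have hcl : Nat.card {a : C // IsConj x' a} = k :=
    Nat.eq_of_mul_eq_mul_right hn0 (hmul.trans hn.symm)
  have hsub : ∀ a : {a : C // IsConj x' a}, Typ z n (a.1 : G) := by
    rintro ⟨a, ha⟩
    obtain ⟨g, rfl⟩ := isConj_iff.1 ha
    have hgz : Commute (g : G) z := Subgroup.mem_centralizer_singleton_iff.1 g.2
    refine ⟨Subgroup.mem_centralizer_singleton_iff.1 (g * x' * g⁻¹).2, ?_, fun e => hx.2.2.1 ?_, ?_⟩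
    · exact (Involution.orderOf_conj _ _).trans hx.2.1
    · have e' : (g : G) * x * (g : G)⁻¹ = z := e
      calc x = (g : G)⁻¹ * ((g : G) * x * (g : G)⁻¹) * g := by group
        _ = (g : G)⁻¹ * (z * g) := by rw [e', mul_assoc]
        _ = z := by rw [← hgz.eq, inv_mul_cancel_left]
    · have hfix : (g : G) * z * (g : G)⁻¹ = z := by rw [hgz.eq, mul_inv_cancel_right]
      rw [← hx.2.2.2]
      refine (Nat.card_congr ((Equiv.subtypeEquiv (MulAut.conj (g : G)).toEquiv fun a => ?_))).symm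
      show a ∈ pcent z x ↔ (g : G) * a * (g : G)⁻¹ ∈ pcent z ((g : G) * x * (g : G)⁻¹)
      rw [mem_pcent, mem_pcent]
      refine and_congr ?_ SemiconjBy.conj_iff.symm
      conv_rhs => rw [← hfix]
      exact SemiconjBy.conj_iff.symm
  let F : {a : C // IsConj x' a} → {a : G // Typ z n a} := fun a => ⟨a.1, hsub a⟩
  have hF : Function.Bijective F := by
    refine Nat.bijective_iff_injective_and_card F |>.2 ⟨fun a b h =>
      Subtype.ext (Subtype.ext (congrArg Subtype.val h :)), ?_⟩
    rw [hcl, ncard_eq_card, hk]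
  obtain ⟨⟨a, ha⟩, hay⟩ := hF.2 ⟨y, hy⟩
  obtain ⟨g, hg⟩ := isConj_iff.1 ha
  refine ⟨g, Subgroup.mem_centralizer_singleton_iff.1 g.2, ?_⟩
  have hay' : (a : G) = y := congrArg Subtype.val hay
  rw [← hay', ← hg]
  rfl

theorem p_count : {x | Typ z 32 x}.ncard = 6 := (c.typ_count check_pList.1).trans check_pList.2
theorem r_count : {x | Typ z 16 x}.ncard = 12 := (c.typ_count check_rList.1).trans check_rList.2
theorem t_count : {x | Typ z 8 x}.ncard = 24 := (c.typ_count check_tList.1).trans check_tList.2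

/-- Commutators in the centraliser of an element of the second type. -/
theorem r_comm {r a b : G} (hr : Typ z 16 r) (ha : Commute a z) (har : Commute a r)
    (hb : Commute b z) (hbr : Commute b r) : a * b = b * a ∨ a * b = z * (b * a) := by
  have h := List.all_eq_true.1 check_rComm _ ((c.r_iff hr.1).1 hr)
  rw [Bool.and_eq_true] at h
  have h1 := List.all_eq_true.1 h.1 (c.f a)
    (List.mem_filter.2 ⟨c.mem a ha, (c.comm_iff ha hr.1).2 har⟩)
  have h2 := List.all_eq_true.1 h1 (c.f b)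
    (List.mem_filter.2 ⟨c.mem b hb, (c.comm_iff hb hr.1).2 hbr⟩)
  rw [Bool.or_eq_true, c.comm_iff ha hb, beq_iff_eq] at h2
  refine h2.imp (fun e => e) fun e => ?_
  rw [← c.map_mul a b ha hb, ← c.map_mul b a hb ha, ← c.map_z,
    ← c.map_mul z _ (Commute.refl z) (hb.mul_left ha),
    c.eq_iff (ha.mul_left hb) ((Commute.refl z).mul_left (hb.mul_left ha))] at e
  exact e

theorem r_comm_exists {r : G} (hr : Typ z 16 r) :
    ∃ a b, Commute a z ∧ Commute a r ∧ Commute b z ∧ Commute b r ∧ a * b = z * (b * a) := by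
  have h := List.all_eq_true.1 check_rComm _ ((c.r_iff hr.1).1 hr)
  rw [Bool.and_eq_true] at h
  obtain ⟨da, hda, h1⟩ := List.any_eq_true.1 h.2
  obtain ⟨db, hdb, h2⟩ := List.any_eq_true.1 h1
  rw [List.mem_filter] at hda hdb
  obtain ⟨a, ha, rfl⟩ := c.surj da hda.1
  obtain ⟨b, hb, rfl⟩ := c.surj db hdb.1
  rw [beq_iff_eq, ← c.map_mul a b ha hb, ← c.map_mul b a hb ha, ← c.map_z,
    ← c.map_mul z _ (Commute.refl z) (hb.mul_left ha),
    c.eq_iff (ha.mul_left hb) ((Commute.refl z).mul_left (hb.mul_left ha))] at h2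
  exact ⟨a, b, ha, (c.comm_iff ha hr.1).1 hda.2, hb, (c.comm_iff hb hr.1).1 hdb.2, h2⟩

/-- The involutions centralising `z` and an element of the second type. -/
theorem r_inv {r x : G} (hr : Typ z 16 r) (hx : Commute x z) (hxr : Commute x r)
    (h2 : orderOf x = 2) : x = z ∨ Typ z 32 x ∨ Typ z 16 x := by
  have h := List.all_eq_true.1 check_rInv _ ((c.r_iff hr.1).1 hr)
  rw [Bool.and_eq_true, Bool.and_eq_true] at h
  have h1 := List.all_eq_true.1 h.1.1 (c.f x) (List.mem_filter.2 ⟨c.mem x hx, by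
    rw [Bool.and_eq_true]; exact ⟨(c.comm_iff hx hr.1).2 hxr, (c.isInv_iff hx).2 h2⟩⟩)
  rw [Bool.or_eq_true, Bool.or_eq_true, beq_iff_eq, List.contains_iff_mem, List.contains_iff_mem,
    c.eq_z_iff hx, ← c.p_iff hx, ← c.r_iff hx, or_assoc] at h1
  exact h1

theorem r_inv_count {r : G} (hr : Typ z 16 r) :
    {x | Commute x z ∧ Commute x r ∧ orderOf x = 2 ∧ ¬ Typ z 16 x}.ncard = 3 ∧
      {x | Commute x z ∧ Commute x r ∧ Typ z 16 x}.ncard = 8 := by
  have h := List.all_eq_true.1 check_rInv _ ((c.r_iff hr.1).1 hr)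
  rw [Bool.and_eq_true, Bool.and_eq_true, beq_iff_eq, beq_iff_eq] at h
  refine ⟨?_, ?_⟩
  · rw [← h.1.2]
    exact c.ncard_eq _ _ fun a ha => by
      rw [Bool.and_eq_true, Bool.and_eq_true, c.comm_iff ha hr.1, c.isInv_iff ha,
        Bool.not_eq_true', c.r_iff ha, ← List.contains_iff_mem, Bool.not_eq_true, and_assoc]
  · rw [← h.2]
    exact c.ncard_eq _ _ fun a ha => by
      rw [Bool.and_eq_true, c.comm_iff ha hr.1, c.r_iff ha, List.contains_iff_mem]

/-- The centraliser in `C(z)` of an element of the third type. -/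
theorem t_cent {x : G} (hx : Typ z 8 x) :
    (∀ a ∈ pcent z x, ∀ b ∈ pcent z x, Commute a b) ∧
      (∀ a ∈ pcent z x, a = 1 ∨ a = z ∨ Typ z 32 a ∨ Typ z 8 a) ∧
      {a | Commute a z ∧ Commute a x ∧ Typ z 32 a}.ncard = 2 ∧
      {a | Commute a z ∧ Commute a x ∧ Typ z 8 a}.ncard = 4 := by
  have h := List.all_eq_true.1 check_tCent _ ((c.t_iff hx.1).1 hx)
  simp only [Bool.and_eq_true, beq_iff_eq] at h
  obtain ⟨⟨⟨h1, h2⟩, h3⟩, h4⟩ := h
  have hm : ∀ a, a ∈ pcent z x → c.f a ∈ cents.filter (fun a => comm a (c.f x)) := fun a ha =>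
    List.mem_filter.2 ⟨c.mem a (mem_pcent.1 ha).1,
      (c.comm_iff (mem_pcent.1 ha).1 hx.1).2 (mem_pcent.1 ha).2⟩
  refine ⟨fun a ha b hb => (c.comm_iff (mem_pcent.1 ha).1 (mem_pcent.1 hb).1).1
    (List.all_eq_true.1 (List.all_eq_true.1 h1 _ (hm a ha)) _ (hm b hb)), fun a ha => ?_, ?_, ?_⟩
  · have ha' := (mem_pcent.1 ha).1
    have := List.all_eq_true.1 h2 _ (hm a ha)
    rw [Bool.or_eq_true, Bool.or_eq_true, Bool.or_eq_true, beq_iff_eq, beq_iff_eq,
      List.contains_iff_mem, List.contains_iff_mem, c.eq_one_iff ha', c.eq_z_iff ha',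
      ← c.p_iff ha', ← c.t_iff ha', or_assoc, or_assoc] at this
    exact this
  · rw [← h3]
    exact c.ncard_eq _ _ fun a ha => by
      rw [Bool.and_eq_true, c.comm_iff ha hx.1, c.p_iff ha, List.contains_iff_mem]
  · rw [← h4]
    exact c.ncard_eq _ _ fun a ha => by
      rw [Bool.and_eq_true, c.comm_iff ha hx.1, c.t_iff ha, List.contains_iff_mem]

/-- Elements of the first type generate an elementary abelian group with `z`. -/
theorem p_mul {a b : G} (ha : Typ z 32 a) (hb : Typ z 32 b) :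
    Commute a b ∧ (a * b = 1 ∨ a * b = z ∨ Typ z 32 (a * b)) := by
  have h := List.all_eq_true.1 (List.all_eq_true.1 check_pMul _ ((c.p_iff ha.1).1 ha)) _
    ((c.p_iff hb.1).1 hb)
  rw [Bool.and_eq_true, Bool.or_eq_true, Bool.or_eq_true, c.comm_iff ha.1 hb.1, beq_iff_eq,
    beq_iff_eq, List.contains_iff_mem, ← c.map_mul a b ha.1 hb.1,
    c.eq_one_iff (ha.1.mul_left hb.1), c.eq_z_iff (ha.1.mul_left hb.1),
    ← c.p_iff (ha.1.mul_left hb.1), or_assoc] at h
  exact h

theorem hits_iff {g : G} (hg : Commute g z) :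
    ∀ (n : ℕ) {a : G}, Commute a z →
      (hits (c.f g) n (c.f a) = true ↔ ∃ k < n, g ^ k * a = z)
  | 0, _, _ => by simp [hits]
  | n + 1, a, ha => by
    rw [hits, Bool.or_eq_true, beq_iff_eq, c.eq_z_iff ha, ← c.map_mul g a hg ha,
      hits_iff hg n (hg.mul_left ha)]
    refine ⟨?_, ?_⟩
    · rintro (h | ⟨k, hk, h⟩)
      · exact ⟨0, n.succ_pos, by rw [pow_zero, one_mul, h]⟩
      · exact ⟨k + 1, by omega, by rw [pow_succ, mul_assoc, h]⟩
    · rintro ⟨k, hk, h⟩
      match k, hk, h with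
      | 0, _, h => exact .inl (by rwa [pow_zero, one_mul] at h)
      | k + 1, hk, h => exact .inr ⟨k, by omega, by rwa [← mul_assoc, ← pow_succ]⟩

theorem iter_eq {g : G} (hg : Commute g z) :
    ∀ (n : ℕ) {a : G}, Commute a z → iter (c.f g) n (c.f a) = c.f (g ^ n * a)
  | 0, a, _ => by rw [iter, pow_zero, one_mul]
  | n + 1, a, ha => by
    rw [iter, ← c.map_mul g a hg ha, iter_eq hg n (hg.mul_left ha), pow_succ, mul_assoc]

theorem pow_twentyfour {g : G} (hg : Commute g z) : g ^ 24 = 1 := by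
  have h := beq_iff_eq.1 (List.all_eq_true.1 check_order _ (c.mem g hg))
  rw [← c.map_one, c.iter_eq hg 24 (Commute.one_left z), mul_one,
    c.eq_iff (hg.pow_left 24) (Commute.one_left z)] at h
  exact h

theorem zpowers_iff {g : G} (hg : Commute g z) :
    z ∈ Subgroup.zpowers g ↔ hits (c.f g) 24 idCode = true := by
  rw [← c.map_one, c.hits_iff hg 24 (Commute.one_left z)]
  refine ⟨fun h => ?_, fun ⟨k, _, h⟩ => ⟨k, by
    simp only [zpow_natCast]
    rwa [mul_one] at h⟩⟩
  obtain ⟨k, hk⟩ := mem_powers_iff_mem_zpowers.2 h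
  exact ⟨k % 24, Nat.mod_lt _ (by norm_num), by
    rw [mul_one, ← pow_eq_pow_mod k (c.pow_twentyfour hg)]; exact hk⟩

theorem hits_count : {g | Commute g z ∧ z ∈ Subgroup.zpowers g}.ncard = 93 :=
  (c.ncard_eq (fun g => z ∈ Subgroup.zpowers g) (fun d => hits d 24 idCode)
    fun _ ha => c.zpowers_iff ha).trans check_hits

/-- The pairs entering the order formula. -/
theorem pairs : {p : G × G | Commute p.1 z ∧ orderOf p.1 = 2 ∧ ¬ Typ z 16 p.1 ∧
    Typ z 16 p.2 ∧ z ∈ Subgroup.zpowers (p.1 * p.2)}.ncard = 240 := by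
  classical
  set U := zc :: (pList ++ tList) with hU
  set L := U.flatMap fun u =>
    (rList.filter fun v => hits (comp u v) 24 idCode).map fun v => (u, v) with hLdef
  have hlen : L.length = 240 := by
    rw [hLdef, List.length_flatMap, ← check_pairs]
    exact congrArg List.sum (List.map_congr_left fun u _ => by
      rw [List.length_map, List.countP_eq_length_filter])
  have hUnd : U.Nodup := by rw [hU]; decide +kernel
  have hnd : L.Nodup := by
    rw [hLdef, List.nodup_flatMap]
    refine ⟨fun u _ => List.Nodup.map (fun a b h => (Prod.ext_iff.1 h).2)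
      ((check_rList.1 ▸ check_cents_nodup.1.filter _).filter _), hUnd.imp ?_⟩
    intro u u' hne
    simp only [Function.onFun, List.disjoint_left, List.mem_map]
    rintro q ⟨v, -, rfl⟩ ⟨v', -, h⟩
    exact hne (Prod.ext_iff.1 h).1.symm
  rw [← hlen, ← List.toFinset_card_of_nodup hnd, ← Set.ncard_coe_finset]
  refine Set.ncard_congr (fun p _ => (c.f p.1, c.f p.2)) ?_ ?_ ?_
  · rintro ⟨u, v⟩ ⟨hu, hu2, hnr, hv, hz⟩
    simp only [List.coe_toFinset, Set.mem_ofPred_eq, hLdef, List.mem_flatMap, List.mem_map,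
      List.mem_filter]
    refine ⟨c.f u, ?_, c.f v, ⟨(c.r_iff hv.1).1 hv, ?_⟩, rfl⟩
    · simp only [hU, List.mem_cons, List.mem_append, c.eq_z_iff hu, ← c.p_iff hu, ← c.t_iff hu]
      rcases c.split hu hu2 with h | h | h | h
      exacts [.inl h, .inr (.inl h), absurd h hnr, .inr (.inr h)]
    · rw [← c.map_mul u v hu hv.1, ← c.zpowers_iff (hu.mul_left hv.1)]
      exact hz
  · rintro ⟨u, v⟩ ⟨u', v'⟩ h h' e
    exact Prod.ext (c.inj _ _ h.1 h'.1 (Prod.ext_iff.1 e).1)
      (c.inj _ _ h.2.2.2.1.1 h'.2.2.2.1.1 (Prod.ext_iff.1 e).2)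
  · rintro ⟨du, dv⟩ hd
    simp only [List.coe_toFinset, Set.mem_ofPred_eq, hLdef, List.mem_flatMap, List.mem_map,
      List.mem_filter, Prod.mk.injEq] at hd
    obtain ⟨u', hu', v', ⟨hv', hh⟩, rfl, rfl⟩ := hd
    have hr : ∀ d ∈ rList, d ∈ cents := fun d hd => by
      rw [← check_rList.1] at hd; exact (List.mem_filter.1 hd).1
    have hsub : ∀ d ∈ U, d ∈ cents ∧ isInv d = true ∧ d ∉ rList := by rw [hU]; decide +kernel
    obtain ⟨h1, h2, h3⟩ := hsub u' hu'
    obtain ⟨u, hu, rfl⟩ := c.surj u' h1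
    obtain ⟨v, hv, rfl⟩ := c.surj v' (hr _ hv')
    refine ⟨(u, v), ⟨hu, (c.isInv_iff hu).1 h2, fun h => h3 ((c.r_iff hu).1 h),
      (c.r_iff hv).2 hv', ?_⟩, rfl⟩
    rwa [← c.map_mul u v hu hv, ← c.zpowers_iff (hu.mul_left hv)] at hh

/-- An element of order three has six centralising elements in `C(z)`. -/
theorem three {b : G} (hb : Commute b z) (h3 : orderOf b = 3) : Nat.card (pcent z b) = 6 := by
  have h := List.all_eq_true.1 check_three _ (c.mem b hb)
  rw [Bool.or_eq_true, beq_iff_eq, c.cnum_eq hb] at h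
  refine h.resolve_left fun h' => ?_
  have h1 : (c.f b != idCode) = true := bne_iff_ne.2 fun e => by
    rw [(c.eq_one_iff hb).1 e, orderOf_one] at h3; omega
  have h2 : comp (c.f b) (comp (c.f b) (c.f b)) = idCode := by
    rw [← c.map_mul b b hb hb, ← c.map_mul b _ hb (hb.mul_left hb),
      c.eq_one_iff (hb.mul_left (hb.mul_left hb)), ← mul_assoc, ← pow_three', ← h3, pow_orderOf_eq_one]
  rw [h1, beq_iff_eq.2 h2] at h'
  exact Bool.noConfusion h'

/-- A subgroup of order 64 whose centre lies in `{1, z}`. -/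
theorem sylow : ∃ S : Subgroup G, S ≤ Subgroup.centralizer ({z} : Set G) ∧ Nat.card S = 64 ∧
    z ∈ S ∧ ∀ x ∈ S, (∀ y ∈ S, x * y = y * x) → x = 1 ∨ x = z := by
  classical
  have hsy := check_sylList
  rw [Bool.and_eq_true, Bool.and_eq_true] at hsy
  have hall := List.all_eq_true.1 hsy.1.1
  have hcl : ∀ d ∈ sylList, d ∈ cents ∧ ∀ e ∈ sylList, comp d e ∈ sylList := fun d hd => by
    have := hall d hd
    rw [Bool.and_eq_true, List.all_eq_true, List.contains_iff_mem] at this
    exact ⟨this.1, fun e he => List.contains_iff_mem.1 (this.2 e he)⟩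
  have hone : idCode ∈ sylList := List.contains_iff_mem.1 hsy.1.2
  have hz : zc ∈ sylList := List.contains_iff_mem.1 (of_decide_eq_true hsy.2)
  let M : Submonoid G :=
    { carrier := {a | Commute a z ∧ c.f a ∈ sylList}
      one_mem' := ⟨Commute.one_left z, c.map_one ▸ hone⟩
      mul_mem' := fun {a b} ha hb => ⟨ha.1.mul_left hb.1, by
        rw [c.map_mul a b ha.1 hb.1]; exact (hcl _ ha.2).2 _ hb.2⟩ }
  let S : Subgroup G :=
    { M with
      inv_mem' := fun {a} ha => by
        rw [inv_eq_of_mul_eq_one_left (a := a ^ (orderOf a - 1)) (b := a) (by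
          rw [← pow_succ, Nat.sub_add_cancel (orderOf_pos a), pow_orderOf_eq_one])]
        exact pow_mem (S := M) ha _ }
  have hmem : ∀ a, a ∈ S ↔ Commute a z ∧ c.f a ∈ sylList := fun a => Iff.rfl
  refine ⟨S, fun a ha => Subgroup.mem_centralizer_singleton_iff.2 ((hmem a).1 ha).1, ?_,
    (hmem z).2 ⟨Commute.refl z, c.map_z ▸ hz⟩, fun x hx hxy => ?_⟩
  · have h := c.ncard_eq (fun a => c.f a ∈ sylList) (fun d => sylList.contains d) fun _ _ => by
      rw [List.contains_iff_mem]
    rw [← Nat.card_coe_set_eq] at h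
    refine (Nat.card_congr (Equiv.subtypeEquivRight hmem)).trans (h.trans ?_)
    rw [List.countP_eq_length_filter, ← check_sylList_nodup.2]
    apply List.Perm.length_eq
    refine (List.perm_ext_iff_of_nodup (check_cents_nodup.1.filter _) check_sylList_nodup.1).2 ?_
    intro d
    rw [List.mem_filter, List.contains_iff_mem]
    exact ⟨fun h => h.2, fun h => ⟨(hcl d h).1, h⟩⟩
  · have hc := List.all_eq_true.1 check_sylCentre _ ((hmem x).1 hx).2
    have hall' : (sylList.all fun e => comm (c.f x) e) = true := by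
      refine List.all_eq_true.2 fun e he => ?_
      obtain ⟨y, hy, rfl⟩ := c.surj e (hcl e he).1
      exact (c.comm_iff hx.1 hy).2 (hxy y ((hmem y).2 ⟨hy, he⟩))
    rw [hall', Bool.or_eq_true, Bool.or_eq_true, beq_iff_eq, beq_iff_eq, c.eq_one_iff hx.1,
      c.eq_z_iff hx.1] at hc
    exact hc.imp (fun e => e.resolve_left Bool.noConfusion) id

end Coding

end Cfsg.Agent.TwelveCent
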