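import Cfsg.Agent.Lib.TwelveCent.Data
import Cfsg.Agent.Lib.MathieuFusion.Certs

/-
Kernel checks on the centraliser of a 2-central involution of M12 given by codes.
-/

set_option autoImplicit false

open Cfsg Cfsg.Agent.Golay Cfsg.Agent.MathieuFusion

namespace Cfsg.Agent.TwelveCent

/-- The two coded elements commute. -/
def comm (a b : ℕ) : Bool := comp a b == comp b a

/-- The coded element is an involution. -/
def isInv (x : ℕ) : Bool := comp x x == idCode && x != idCode

/-- Number of elements of the centraliser commuting with `x`. -/
def cnum (x : ℕ) : ℕ := cents.countP fun a => comm a x

/-- Among the first `n` products of powers of `d` with `acc`, one is `zc`. -/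
def hits (d : ℕ) : ℕ → ℕ → Bool
  | 0, _ => false
  | n + 1, acc => acc == zc || hits d n (comp d acc)

/-- The `n`-th power of `d`, times `acc`. -/
def iter (d : ℕ) : ℕ → ℕ → ℕ
  | 0, acc => acc
  | n + 1, acc => iter d n (comp d acc)

/-- The Sylow 2-subgroup. -/
def sylList : List ℕ := elts (sylGens.map Prod.fst)

/-- Each entry is a conjugate, by one of the generators, of a later one or of `zc`. -/
def derived : List (ℕ × ℕ × ℕ) → Bool
  | [] => true
  | (x, p, k) :: rest =>
    (match conjGens[k]? with
      | some (g, gi) => x == comp g (comp p gi)
      | none => false) &&
    (p == zc || (rest.map Prod.fst).contains p) && derived rest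

/-! ### Membership in M12 -/

theorem check_zc : isAut zc = true ∧ stable zc dodecad0 = true ∧ canon zc = zc ∧
    comp zc zc = idCode ∧ zc ≠ idCode := by decide +kernel

theorem check_conjGens : conjGens.all (fun x => isAut x.1 && stable x.1 dodecad0 &&
    validPerm x.2 && comp x.1 x.2 == idCode) = true := by decide +kernel

theorem check_cents : cents.all (fun d => isAut d && stable d dodecad0 && canon d == d &&
    comm d zc) = true := by decide +kernel

theorem check_cents_nodup : cents.Nodup ∧ cents.length = 192 := by decide +kernel

theorem check_conjs_derived : derived conjs = true := by decide +kernel

theorem check_conjs_nodup : (zc :: conjs.map Prod.fst).Nodup ∧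
    (zc :: conjs.map Prod.fst).length = 495 := by decide +kernel

/-! ### The Sylow subgroup -/

theorem check_sylGens : checkPoly sylGens = true := by decide +kernel

theorem check_sylGens_aut : sylGens.all (fun x => isAut x.1 && stable x.1 dodecad0) = true := by
  decide +kernel

theorem check_sylList : (sylList.all fun d => cents.contains d &&
      sylList.all fun e => sylList.contains (comp d e)) &&
    sylList.contains idCode && sylList.contains zc = true := by decide +kernel

theorem check_sylList_nodup : sylList.Nodup ∧ sylList.length = 64 := by decide +kernel

theorem check_sylCentre : (sylList.all fun d =>
    !(sylList.all fun e => comm d e) || d == idCode || d == zc) = true := by decide +kernel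

/-! ### The centraliser -/

theorem check_id : cents.contains idCode && cents.contains zc &&
    cents.all (fun d => !(comp d d == d) || d == idCode) &&
    cents.all (fun d => !(cents.all fun e => comm d e) || d == idCode || d == zc) = true := by
  decide +kernel

theorem check_split : cents.all (fun x => !(isInv x && x != zc) ||
    pList.contains x || rList.contains x || tList.contains x) = true := by decide +kernel

theorem check_pList : cents.filter (fun x => isInv x && x != zc && cnum x == 32) = pList ∧
    pList.length = 6 := by decide +kernel

theorem check_rList : cents.filter (fun x => isInv x && x != zc && cnum x == 16) = rList ∧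
    rList.length = 12 := by decide +kernel

theorem check_tList : cents.filter (fun x => isInv x && x != zc && cnum x == 8) = tList ∧
    tList.length = 24 := by decide +kernel

/-- Commutators in the centraliser of an element of the second type. -/
theorem check_rComm : rList.all (fun r =>
    ((cents.filter fun a => comm a r).all fun a => (cents.filter fun a => comm a r).all fun b =>
      comm a b || comp a b == comp zc (comp b a)) &&
    (cents.filter fun a => comm a r).any fun a => (cents.filter fun a => comm a r).any fun b =>
      comp a b == comp zc (comp b a)) = true := by decide +kernel

theorem check_rInv : rList.all (fun r =>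
    ((cents.filter fun a => comm a r && isInv a).all fun a =>
      a == zc || pList.contains a || rList.contains a) &&
    (cents.countP fun a => comm a r && isInv a && !rList.contains a) == 3 &&
    (cents.countP fun a => comm a r && rList.contains a) == 8) = true := by decide +kernel

theorem check_tCent : tList.all (fun x =>
    ((cents.filter fun a => comm a x).all fun a => (cents.filter fun a => comm a x).all fun b =>
      comm a b) &&
    ((cents.filter fun a => comm a x).all fun a =>
      a == idCode || a == zc || pList.contains a || tList.contains a) &&
    (cents.countP fun a => comm a x && pList.contains a) == 2 &&
    (cents.countP fun a => comm a x && tList.contains a) == 4) = true := by decide +kernel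

theorem check_pMul : pList.all (fun a => pList.all fun b => comm a b &&
    (comp a b == idCode || comp a b == zc || pList.contains (comp a b))) = true := by
  decide +kernel

theorem check_pairs : ((zc :: (pList ++ tList)).map fun u =>
    rList.countP fun v => hits (comp u v) 24 idCode).sum = 240 := by decide +kernel

theorem check_order : cents.all (fun d => iter d 24 idCode == idCode) = true := by decide +kernel

theorem check_hits : (cents.countP fun d => hits d 24 idCode) = 93 := by decide +kernel

theorem check_three : cents.all (fun b => !(b != idCode && comp b (comp b b) == idCode) ||
    cnum b == 6) = true := by decide +kernel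

end Cfsg.Agent.TwelveCent
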