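import Cfsg.Agent.Lib.TwelveCent.Check

/-
A group element `z` whose centraliser is coded by the list `cents` with composition of codes.

* `Coding z` : such a coding
* `Coding.of_iso` : a coding moves along an isomorphism of centralisers of involutions
* `Coding.ncard_eq` : counting in the centraliser
-/

set_option autoImplicit false

open Cfsg Cfsg.Agent.MathieuFusion

namespace Cfsg.Agent.TwelveCent

theorem idem_cents {d : ℕ} (hd : d ∈ cents) (h : comp d d = d) : d = idCode := by
  have hchk := check_id
  have := List.all_eq_true.1 (Bool.and_eq_true_iff.1 (Bool.and_eq_true_iff.1 hchk).1).2 d hd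
  rw [Bool.or_eq_true, Bool.not_eq_true', beq_eq_false_iff_ne, beq_iff_eq] at this
  exact this.resolve_left fun e => e h

theorem centre_cents {d : ℕ} (hd : d ∈ cents) (h : ∀ e ∈ cents, comm d e = true) :
    d = idCode ∨ d = zc := by
  have hchk := of_decide_eq_true (Bool.and_eq_true_iff.1 check_id).2
  have := List.all_eq_true.1 hchk d hd
  have ha : (cents.all fun e => comm d e) = true := List.all_eq_true.2 h
  rw [ha, Bool.or_eq_true, Bool.or_eq_true, beq_iff_eq, beq_iff_eq] at this
  exact this.imp (fun e => e.resolve_left Bool.noConfusion) id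

/-- A coding of the centraliser of `z` by `cents`. -/
structure Coding {G : Type*} [Group G] (z : G) where
  f : G → ℕ
  mem : ∀ a, Commute a z → f a ∈ cents
  map_mul : ∀ a b, Commute a z → Commute b z → f (a * b) = comp (f a) (f b)
  inj : ∀ a b, Commute a z → Commute b z → f a = f b → a = b
  surj : ∀ d ∈ cents, ∃ a, Commute a z ∧ f a = d
  map_z : f z = zc

namespace Coding

variable {G : Type*} [Group G] {z : G}

theorem map_one (c : Coding z) : c.f 1 = idCode := by
  have h := c.map_mul 1 1 (Commute.one_left z) (Commute.one_left z)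
  rw [one_mul] at h
  exact idem_cents (c.mem 1 (Commute.one_left z)) h.symm

theorem eq_iff (c : Coding z) {a b : G} (ha : Commute a z) (hb : Commute b z) :
    c.f a = c.f b ↔ a = b := ⟨c.inj a b ha hb, fun h => h ▸ rfl⟩

theorem eq_one_iff (c : Coding z) {a : G} (ha : Commute a z) : c.f a = idCode ↔ a = 1 := by
  rw [← c.map_one, c.eq_iff ha (Commute.one_left z)]

theorem eq_z_iff (c : Coding z) {a : G} (ha : Commute a z) : c.f a = zc ↔ a = z := by
  rw [← c.map_z, c.eq_iff ha (Commute.refl z)]

theorem comm_iff (c : Coding z) {a b : G} (ha : Commute a z) (hb : Commute b z) :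
    comm (c.f a) (c.f b) = true ↔ Commute a b := by
  rw [comm, beq_iff_eq, ← c.map_mul a b ha hb, ← c.map_mul b a hb ha,
    c.eq_iff (ha.mul_left hb) (hb.mul_left ha)]
  rfl

theorem ncard_eq (c : Coding z) (P : G → Prop) (Q : ℕ → Bool)
    (h : ∀ a, Commute a z → (P a ↔ Q (c.f a) = true)) :
    {a | Commute a z ∧ P a}.ncard = cents.countP Q := by
  have hnd : cents.Nodup := check_cents_nodup.1
  rw [List.countP_eq_length_filter, ← List.toFinset_card_of_nodup (hnd.filter Q),
    ← Set.ncard_coe_finset]
  refine Set.ncard_congr (fun a _ => c.f a) ?_ ?_ ?_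
  · intro a ha
    simp only [List.coe_toFinset, Set.mem_ofPred_eq, List.mem_filter]
    exact ⟨c.mem a ha.1, (h a ha.1).1 ha.2⟩
  · exact fun a b ha hb e => c.inj a b ha.1 hb.1 e
  · intro d hd
    simp only [List.coe_toFinset, Set.mem_ofPred_eq, List.mem_filter] at hd
    obtain ⟨a, ha, rfl⟩ := c.surj d hd.1
    exact ⟨a, ⟨ha, (h a ha).2 hd.2⟩, rfl⟩

/-- A coding moves along an isomorphism of the centralisers of two involutions. -/
theorem of_iso {H : Type*} [Group H] {u : H} (c : Coding u) {t : G} (ht : orderOf t = 2)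
    (e : ↥(Subgroup.centralizer ({t} : Set G)) ≃* ↥(Subgroup.centralizer ({u} : Set H))) :
    Nonempty (Coding t) := by
  classical
  have hin : ∀ {a : G}, Commute a t → a ∈ Subgroup.centralizer ({t} : Set G) := fun ha =>
    Subgroup.mem_centralizer_singleton_iff.2 ha
  have hu : ∀ x : ↥(Subgroup.centralizer ({u} : Set H)), Commute (x : H) u := fun x =>
    Subgroup.mem_centralizer_singleton_iff.1 x.2
  let f : G → ℕ := fun a => if h : Commute a t then c.f (e ⟨a, hin h⟩ : H) else 0
  have hf : ∀ a (h : Commute a t), f a = c.f (e ⟨a, hin h⟩ : H) := fun a h => dif_pos h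
  have hmem : ∀ a, Commute a t → f a ∈ cents := fun a h => by
    rw [hf a h]; exact c.mem _ (hu _)
  have hmul : ∀ a b, Commute a t → Commute b t → f (a * b) = comp (f a) (f b) := by
    intro a b ha hb
    rw [hf a ha, hf b hb, hf _ (ha.mul_left hb), ← c.map_mul _ _ (hu _) (hu _), ← Subgroup.coe_mul,
      ← _root_.map_mul e]
    rfl
  have hinj : ∀ a b, Commute a t → Commute b t → f a = f b → a = b := by
    intro a b ha hb h
    rw [hf a ha, hf b hb] at h
    exact congrArg Subtype.val (e.injective (Subtype.ext (c.inj _ _ (hu _) (hu _) h)))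
  have hsurj : ∀ d ∈ cents, ∃ a, Commute a t ∧ f a = d := by
    intro d hd
    obtain ⟨x, hx, rfl⟩ := c.surj d hd
    set y := e.symm ⟨x, Subgroup.mem_centralizer_singleton_iff.2 hx⟩ with hy
    have hyt : Commute (y : G) t := Subgroup.mem_centralizer_singleton_iff.1 y.2
    refine ⟨y, hyt, ?_⟩
    rw [hf _ hyt]
    simp [hy]
  refine ⟨⟨f, hmem, hmul, hinj, hsurj, ?_⟩⟩
  have h1 : f 1 = idCode := by
    have h := hmul 1 1 (Commute.one_left t) (Commute.one_left t)
    rw [one_mul] at h
    exact idem_cents (hmem 1 (Commute.one_left t)) h.symm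
  have hall : ∀ d ∈ cents, comm (f t) d = true := fun d hd => by
    obtain ⟨a, ha, rfl⟩ := hsurj d hd
    rw [comm, beq_iff_eq, ← hmul _ _ (Commute.refl t) ha, ← hmul _ _ ha (Commute.refl t), ha.eq]
  rcases centre_cents (hmem t (Commute.refl t)) hall with hid | hz
  · exfalso
    have := hinj t 1 (Commute.refl t) (Commute.one_left t) (hid.trans h1.symm)
    rw [this, orderOf_one] at ht
    omega
  · exact hz

end Coding

end Cfsg.Agent.TwelveCent
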