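import Cfsg.Agent.Lib.TwelveCent.Local
import Cfsg.Agent.Lib.SmallOrders.Basic
import Cfsg.Agent.Lib.SmallOrders.Count
import Cfsg.Agent.Lib.Order6048.Double
import Cfsg.Agent.Lib.Involution.Real

/-
The orders 4416 and 12096 do not occur.

* `card_eq` : the order is 95040
-/

set_option autoImplicit false
set_option linter.unusedSectionVars false
set_option linter.style.haveILetI false

open Cfsg Subgroup

namespace Cfsg.Agent.TwelveCent

section tools

variable {G : Type*} [Group G] [Finite G]

theorem card_centralizer_conj (g x : G) :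
    Nat.card (centralizer ({g * x * g⁻¹} : Set G)) = Nat.card (centralizer ({x} : Set G)) := by
  refine (Nat.card_congr (Equiv.subtypeEquiv (MulAut.conj g).toEquiv fun a => ?_)).symm
  rw [mem_centralizer_singleton_iff, mem_centralizer_singleton_iff]
  show Commute a x ↔ Commute (g * a * g⁻¹) (g * x * g⁻¹)
  exact SemiconjBy.conj_iff.symm

/-- A cyclic group contains at most one involution. -/
theorem invol_unique {g i j : G} (hi : orderOf i = 2) (hj : orderOf j = 2) (hig : i ∈ zpowers g)
    (hjg : j ∈ zpowers g) : i = j := by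
  haveI := Fintype.ofFinite (zpowers g)
  have h2 : ∀ a : zpowers g, orderOf a = 2 ↔ orderOf (a : G) = 2 := fun a => by rw [orderOf_coe]
  have h := IsCyclic.card_orderOf_eq_totient (α := zpowers g) (d := 2) (by
    rw [← Nat.card_eq_fintype_card, ← hi]
    exact Subgroup.orderOf_dvd_natCard _ hig)
  rw [Nat.totient_two] at h
  obtain ⟨a, ha⟩ := Finset.card_eq_one.1 h
  have h1 : (⟨i, hig⟩ : zpowers g) ∈ Finset.univ.filter (fun a : zpowers g => orderOf a = 2) :=
    Finset.mem_filter.2 ⟨Finset.mem_univ _, (h2 _).2 hi⟩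
  have h3 : (⟨j, hjg⟩ : zpowers g) ∈ Finset.univ.filter (fun a : zpowers g => orderOf a = 2) :=
    Finset.mem_filter.2 ⟨Finset.mem_univ _, (h2 _).2 hj⟩
  rw [ha, Finset.mem_singleton] at h1 h3
  exact congrArg Subtype.val (h1.trans h3.symm)

/-- The index of the centraliser of a prime cyclic subgroup in its normaliser. -/
theorem exists_dvd_aut {q : ℕ} [Fact q.Prime] {x : G} (hx : orderOf x = q) :
    ∃ k, k ∣ q - 1 ∧
      Nat.card (normalizer (zpowers x : Set G)) = Nat.card (centralizer ({x} : Set G)) * k := by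
  set X := zpowers x with hX
  set N := normalizer (X : Set G) with hN
  let φ : N →* MulAut X := X.normalizerMonoidHom
  have hle : centralizer (X : Set G) ≤ N := fun a ha => mem_normalizer_fintype fun b hb => by
    rw [← mem_centralizer_iff.1 ha b hb, mul_inv_cancel_right]
    exact hb
  have hker : Nat.card φ.ker = Nat.card (centralizer ({x} : Set G)) := by
    rw [show φ.ker = (centralizer (X : Set G)).subgroupOf N from normalizerMonoidHom_ker X,
      Nat.card_congr (subgroupOfEquivOfLe hle).toEquiv, hX, zpowers_eq_closure, centralizer_closure]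
  refine ⟨Nat.card φ.range, ?_, ?_⟩
  · have h := φ.range.card_subgroup_dvd_card
    haveI : IsCyclic X := by infer_instance
    rwa [IsCyclic.card_mulAut, show Nat.card X = q by rw [hX, Nat.card_zpowers, hx],
      Nat.totient_prime Fact.out] at h
  · rw [← hker, ← Subgroup.index_ker, Subgroup.card_mul_index]

end tools

variable {G : Type*} [Group G] [Finite G] [IsSimpleGroup G] {z r : G}

namespace Coding

variable (c : Coding z) (hna : ¬ IsMulCommutative G)

include c

theorem cent_invol (h : Two z r) {i : G} (hi : orderOf i = 2) :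
    Nat.card (centralizer ({i} : Set G)) = 192 ∨
      Nat.card (centralizer ({i} : Set G)) = Nat.card (centralizer ({r} : Set G)) := by
  rcases h.hall i hi with hc | hc <;> obtain ⟨g, rfl⟩ := isConj_iff.1 hc
  · exact .inl (by rw [card_centralizer_conj, c.cent_card])
  · exact .inr (card_centralizer_conj g r)

include hna in
theorem card_ne_4416 (h : Two z r) (hr : Nat.card (centralizer ({r} : Set G)) = 16) :
    Nat.card G ≠ 4416 := by
  intro hG
  haveI : Fact (Nat.Prime 23) := ⟨by norm_num⟩
  obtain ⟨x, hx⟩ := exists_prime_orderOf_dvd_card' (G := G) 23 (by rw [hG]; norm_num)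
  have hS : ∀ Q : Sylow 23 G, Nat.card (Q : Subgroup G) = 23 := fun Q =>
    (SmallOrders.card_sylow_subgroup (p := 23) (e := 1) (m := 192) (by rw [hG]; norm_num)
      (by norm_num) Q).trans (pow_one _)
  obtain ⟨Q, hQ⟩ := SmallOrders.exists_sylow_eq_zpowers hS hx
  have hmul := SmallOrders.card_normalizer_mul_card_sylow Q
  have hdvd : Nat.card (Sylow 23 G) ∣ 192 := by
    rw [← SmallOrders.index_sylow (p := 23) (e := 1) (m := 192) (by rw [hG]; norm_num) (by norm_num) Q]
    exact Q.card_dvd_index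
  have hne : Nat.card (Sylow 23 G) ≠ 1 := by
    intro e
    haveI := (Nat.card_eq_one_iff_unique.1 e).1
    have hn := Sylow.normal_of_subsingleton Q
    rcases IsSimpleGroup.eq_bot_or_eq_top_of_normal (Q : Subgroup G) hn with e' | e'
    · have := hS Q; rw [e', card_bot] at this; omega
    · have := hS Q; rw [e', card_top, hG] at this; omega
  have key : ∀ n ∈ Nat.divisors 192, n % 23 = 1 → n = 1 ∨ n = 24 := by decide +kernel
  have h24 := (key _ (Nat.mem_divisors.2 ⟨hdvd, by norm_num⟩) (card_sylow_modEq_one 23 G)).resolve_left hne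
  rw [hQ, h24, hG] at hmul
  obtain ⟨k, hk, hN⟩ := exists_dvd_aut (q := 23) hx
  rw [hN] at hmul
  have h2 : 2 ∣ Nat.card (centralizer ({x} : Set G)) := by
    by_contra ho
    have hk4 : 2 ^ 2 ∣ k := by
      refine (((Nat.prime_two.coprime_iff_not_dvd).2 ho).pow_left 2).dvd_of_dvd_mul_left ⟨46, ?_⟩
      omega
    have := hk4.trans hk
    norm_num at this
  haveI := Fact.mk Nat.prime_two
  obtain ⟨i, hi⟩ := exists_prime_orderOf_dvd_card' 2 h2
  rw [← Subgroup.orderOf_coe] at hi
  have hxi : x ∈ centralizer ({(i : G)} : Set G) :=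
    mem_centralizer_singleton_iff.2 (mem_centralizer_singleton_iff.1 i.2).symm
  have h23 := hx ▸ Subgroup.orderOf_dvd_natCard _ hxi
  rcases c.cent_invol h hi with e | e <;> rw [e] at h23
  · norm_num at h23
  · rw [hr] at h23; norm_num at h23

include hna in
/-- Eight elements of order three in the centraliser of `r` of order 48. -/
theorem eight_le_three (hr : Typ z 16 r) (h48 : Nat.card (centralizer ({r} : Set G)) = 48) :
    8 ≤ Nat.card {b : centralizer ({r} : Set G) // orderOf b = 3} := by
  classical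
  haveI := Fact.mk (show Nat.Prime 3 by norm_num)
  set W := centralizer ({r} : Set G) with hW
  have hS : ∀ Q : Sylow 3 W, Nat.card (Q : Subgroup W) = 3 := fun Q =>
    (SmallOrders.card_sylow_subgroup (p := 3) (e := 1) (m := 16) (by rw [h48]; norm_num)
      (by norm_num) Q).trans (pow_one _)
  rw [SmallOrders.card_orderOf_eq_prime hS]
  have hne : Nat.card (Sylow 3 W) ≠ 1 := by
    intro e
    haveI := (Nat.card_eq_one_iff_unique.1 e).1
    obtain ⟨Q⟩ : Nonempty (Sylow 3 W) := inferInstance
    obtain ⟨b, hb⟩ := exists_prime_orderOf_dvd_card' (G := W) 3 (by rw [h48]; norm_num)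
    have hall : ∀ a : W, orderOf a = 3 → a ∈ (Q : Subgroup W) := by
      intro a ha
      obtain ⟨R, hR⟩ := SmallOrders.exists_sylow_eq_zpowers hS ha
      rw [Subsingleton.elim Q R, hR]
      exact mem_zpowers a
    have hcls : Nat.card {a : W // IsConj b a} ≤ 2 := by
      have h1 : Nat.card {a : W // IsConj b a} ≤ ((Q : Set W) \ {1}).ncard := by
        rw [ncard_eq_card]
        refine Set.ncard_le_ncard (fun a ha => ?_) (Set.toFinite _)
        have ho : orderOf a = 3 := (Involution.orderOf_eq_of_isConj ha).symm.trans hb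
        exact ⟨hall a ho, fun e' => by rw [Set.mem_singleton_iff.1 e', orderOf_one] at ho; omega⟩
      rwa [Set.ncard_sdiff_singleton_of_mem (show (1 : W) ∈ (Q : Set W) from one_mem (Q : Subgroup W)),
        ← Nat.card_coe_set_eq, show Nat.card ↥(Q : Set W) = 3 from hS Q] at h1
    have hmul := S1875.class_card_mul b
    rw [h48] at hmul
    have hb' : orderOf (b : G) = 3 := by rw [orderOf_coe]; exact hb
    refine c.not_eight_dvd_three hna hr (mem_centralizer_singleton_iff.1 b.2) hb' ?_
    have hcard : Nat.card ↥(W ⊓ centralizer ({(b : G)} : Set G)) =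
        Nat.card (centralizer ({b} : Set W)) :=
      Nat.card_congr
        { toFun := fun a => ⟨⟨a.1, a.2.1⟩,
            mem_centralizer_singleton_iff.2 (Subtype.ext (mem_centralizer_singleton_iff.1 a.2.2))⟩
          invFun := fun a => ⟨(a.1 : G), a.1.2,
            mem_centralizer_singleton_iff.2 (congrArg Subtype.val (mem_centralizer_singleton_iff.1 a.2))⟩
          left_inv := fun a => rfl
          right_inv := fun a => rfl }
    rw [hcard]
    have hpos : 0 < Nat.card {a : W // IsConj b a} :=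
      @Nat.card_pos _ ⟨⟨b, IsConj.refl b⟩⟩ _
    generalize Nat.card {a : W // IsConj b a} = k at hmul hcls hpos
    interval_cases k <;> omega
  have hd : Nat.card (Sylow 3 W) ∣ 16 := by
    obtain ⟨Q⟩ : Nonempty (Sylow 3 W) := inferInstance
    rw [← SmallOrders.index_sylow (p := 3) (e := 1) (m := 16) (by rw [h48]; norm_num) (by norm_num) Q]
    exact Q.card_dvd_index
  have key : ∀ n ∈ Nat.divisors 16, n % 3 = 1 → n = 1 ∨ 4 ≤ n := by decide +kernel
  have := (key _ (Nat.mem_divisors.2 ⟨hd, by norm_num⟩) (card_sylow_modEq_one 3 W)).resolve_left hne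
  omega

include hna in
/-- At most 3969 elements of odd order, if the order is 12096. -/
theorem odd_le (h : Two z r) (hG : Nat.card G = 12096)
    (h48 : Nat.card (centralizer ({r} : Set G)) = 48) :
    Nat.card {g : G // Odd (orderOf g)} ≤ 3969 := by
  classical
  haveI := Fintype.ofFinite G
  have hr := h.r_typ
  set W := centralizer ({r} : Set G) with hW
  have hconj : ∀ {x i : G}, IsConj x i →
      Nat.card {g : G // i ∈ zpowers g} = Nat.card {g : G // x ∈ zpowers g} := by
    intro x i hxi
    obtain ⟨g, rfl⟩ := isConj_iff.1 hxi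
    refine (Nat.card_congr (Equiv.subtypeEquiv (MulAut.conj g).toEquiv fun a => ?_)).symm
    show x ∈ zpowers a ↔ MulAut.conj g x ∈ zpowers (MulAut.conj g a)
    rw [show MulAut.conj g a = (MulAut.conj g).toMonoidHom a from rfl, ← MonoidHom.map_zpowers,
      show MulAut.conj g x = (MulAut.conj g).toMonoidHom x from rfl]
    exact (mem_map_iff_mem (MulAut.conj g).injective).symm
  have hz93 : 93 ≤ Nat.card {g : G // z ∈ zpowers g} := by
    rw [← c.hits_count, ncard_eq_card]
    exact Set.ncard_le_ncard (fun g hg => hg.2) (Set.toFinite _)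
  have hr9 : 9 ≤ Nat.card {g : G // r ∈ zpowers g} := by
    have h8 := c.eight_le_three hna hr h48
    let F : Option {b : W // orderOf b = 3} → {g : G // r ∈ zpowers g} := fun o => match o with
      | none => ⟨r, mem_zpowers r⟩
      | some b => ⟨(b.1 : G) * r, by
          have hc : Commute (b.1 : G) r := mem_centralizer_singleton_iff.1 b.1.2
          have hb : (b.1 : G) ^ 3 = 1 := by
            have := pow_orderOf_eq_one (b.1 : G)
            rwa [orderOf_coe, b.2] at this
          refine mem_zpowers_iff.2 ⟨(3 : ℕ), ?_⟩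
          rw [zpow_natCast, hc.mul_pow, hb, one_mul, pow_succ, pow_two,
            Involution.mul_self hr.2.1, one_mul]⟩
    have hF : Function.Injective F := by
      have hne : ∀ b : {b : W // orderOf b = 3}, r ≠ (b.1 : G) * r := fun b e => by
        have h1 : (b.1 : G) = 1 := mul_eq_right.1 e.symm
        have := b.2
        rw [show b.1 = 1 from Subtype.ext h1, orderOf_one] at this
        omega
      rintro (_ | b) (_ | b') e
      · rfl
      · exact absurd (congrArg Subtype.val e) (hne b')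
      · exact absurd (congrArg Subtype.val e).symm (hne b)
      · exact congrArg some (Subtype.ext (Subtype.ext (mul_right_cancel (congrArg Subtype.val e :))))
    have := Nat.card_le_card_of_injective F hF
    rw [Finite.card_option] at this
    exact (Nat.add_le_add_right h8 1).trans this
  have hzr : ¬ IsConj z r := c.not_conj_r hr
  let Φ : ((Σ i : {i // IsConj z i}, {g : G // i.1 ∈ zpowers g}) ⊕
      (Σ i : {i // IsConj r i}, {g : G // i.1 ∈ zpowers g})) → {g : G // ¬ Odd (orderOf g)} :=
    fun s => match s with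
    | .inl s => ⟨s.2.1, fun ho => by
        have h2 := orderOf_dvd_of_mem_zpowers s.2.2
        rw [← Involution.orderOf_eq_of_isConj s.1.2, c.z_ord] at h2
        exact (Nat.not_even_iff_odd.2 ho) (even_iff_two_dvd.2 h2)⟩
    | .inr s => ⟨s.2.1, fun ho => by
        have h2 := orderOf_dvd_of_mem_zpowers s.2.2
        rw [← Involution.orderOf_eq_of_isConj s.1.2, hr.2.1] at h2
        exact (Nat.not_even_iff_odd.2 ho) (even_iff_two_dvd.2 h2)⟩
  have hΦ : Function.Injective Φ := by
    have ho : ∀ {x i : G}, IsConj x i → orderOf x = 2 → orderOf i = 2 := fun hh hx =>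
      (Involution.orderOf_eq_of_isConj hh).symm.trans hx
    rintro (⟨⟨i, hi⟩, ⟨g, hg⟩⟩ | ⟨⟨i, hi⟩, ⟨g, hg⟩⟩) (⟨⟨j, hj⟩, ⟨g', hg'⟩⟩ | ⟨⟨j, hj⟩, ⟨g', hg'⟩⟩) e <;>
      have eg : g = g' := congrArg Subtype.val e <;> subst eg
    · obtain rfl := invol_unique (ho hi c.z_ord) (ho hj c.z_ord) hg hg'; rfl
    · obtain rfl := invol_unique (ho hi c.z_ord) (ho hj hr.2.1) hg hg'
      exact absurd (hi.trans hj.symm) hzr
    · obtain rfl := invol_unique (ho hi hr.2.1) (ho hj c.z_ord) hg hg'
      exact absurd (hj.trans hi.symm) hzr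
    · obtain rfl := invol_unique (ho hi hr.2.1) (ho hj hr.2.1) hg hg'; rfl
  have hle := Nat.card_le_card_of_injective Φ hΦ
  rw [Nat.card_sum, Nat.card_sigma, Nat.card_sigma,
    Finset.sum_congr rfl (fun (i : {i // IsConj z i}) _ => hconj i.2),
    Finset.sum_congr rfl (fun (i : {i // IsConj r i}) _ => hconj i.2),
    Finset.sum_const, Finset.sum_const, Finset.card_univ, Finset.card_univ, smul_eq_mul, smul_eq_mul,
    ← Nat.card_eq_fintype_card, ← Nat.card_eq_fintype_card] at hle
  have hcz := S1875.class_card_mul z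
  rw [c.cent_card, hG] at hcz
  have hcr := S1875.class_card_mul r
  rw [← hW, h48, hG] at hcr
  rw [show Nat.card {i // IsConj z i} = 63 by omega, show Nat.card {i // IsConj r i} = 252 by omega]
    at hle
  have htot : Nat.card {g : G // Odd (orderOf g)} + Nat.card {g : G // ¬ Odd (orderOf g)} =
      12096 := by
    rw [← Nat.card_sum, ← hG]
    exact Nat.card_congr (Equiv.sumCompl fun g : G => Odd (orderOf g))
  omega

include hna in
theorem card_ne_12096 (h : Two z r) (h48 : Nat.card (centralizer ({r} : Set G)) = 48) :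
    Nat.card G ≠ 12096 := by
  classical
  intro hG
  haveI := Fintype.ofFinite G
  haveI : Fact (Nat.Prime 7) := ⟨by norm_num⟩
  haveI : Fact (Nat.Prime 3) := ⟨by norm_num⟩
  haveI := Fact.mk Nat.prime_two
  have hO := c.odd_le hna h hG h48
  have hS : ∀ Q : Sylow 7 G, Nat.card (Q : Subgroup G) = 7 := fun Q =>
    (SmallOrders.card_sylow_subgroup (p := 7) (e := 1) (m := 1728) (by rw [hG]; norm_num)
      (by norm_num) Q).trans (pow_one _)
  have hno : ∀ {x i : G}, orderOf x = 7 → orderOf i = 2 → ¬ Commute x i := by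
    intro x i hx hi hc
    have h7 := hx ▸ Subgroup.orderOf_dvd_natCard _ (mem_centralizer_singleton_iff.2 hc)
    rcases c.cent_invol h hi with e | e <;> rw [e] at h7
    · norm_num at h7
    · rw [h48] at h7; norm_num at h7
  have hCodd : ∀ {x : G}, orderOf x = 7 → Odd (Nat.card (centralizer ({x} : Set G))) := by
    intro x hx
    rw [← Nat.not_even_iff_odd, even_iff_two_dvd]
    intro h2
    obtain ⟨i, hi⟩ := exists_prime_orderOf_dvd_card' 2 h2
    rw [← Subgroup.orderOf_coe] at hi
    exact hno hx hi (mem_centralizer_singleton_iff.1 i.2).symm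
  -- the normalisers
  set n := Nat.card (Sylow 7 G) with hn
  have hN : ∀ {x : G}, orderOf x = 7 → Nat.card (normalizer (zpowers x : Set G)) * n = 12096 := by
    intro x hx
    obtain ⟨Q, hQ⟩ := SmallOrders.exists_sylow_eq_zpowers hS hx
    rw [← hG, ← SmallOrders.card_normalizer_mul_card_sylow Q, hQ]
  obtain ⟨x, hx⟩ := exists_prime_orderOf_dvd_card' (G := G) 7 (by rw [hG]; norm_num)
  obtain ⟨k, hk, hNx⟩ := exists_dvd_aut (q := 7) hx
  set C := Nat.card (centralizer ({x} : Set G)) with hC
  have hCo := hCodd hx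
  have hC7 : 7 ∣ C := hx ▸ Subgroup.orderOf_dvd_natCard _ (mem_centralizer_singleton_iff.2 rfl)
  have hCk : C * k * n = 12096 := hNx ▸ hN hx
  have hcases : (n = 64 ∧ C * k = 189) ∨ (n = 288 ∧ C * k = 42) := by
    have hd : n ∈ Nat.divisors 12096 := Nat.mem_divisors.2 ⟨⟨C * k, by rw [← hCk]; ring⟩, by norm_num⟩
    have hmod : n % 7 = 1 := card_sylow_modEq_one 7 G
    have key : ∀ m ∈ Nat.divisors 12096, m % 7 = 1 →
        (m = 64 ∨ m = 288) ∨ 4 ∣ 12096 / m := by decide +kernel
    have hCkn : 12096 / n = C * k := Nat.div_eq_of_eq_mul_left (Nat.card_pos) hCk.symm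
    rcases key n hd hmod with (e | e) | e
    · exact .inl ⟨e, by rw [e] at hCk; omega⟩
    · exact .inr ⟨e, by rw [e] at hCk; omega⟩
    · exfalso
      rw [hCkn] at e
      have h4 : (2 ^ 2 : ℕ) ∣ k :=
        (((Nat.prime_two.coprime_iff_not_dvd).2 (fun h2 => by
          rw [Nat.odd_iff] at hCo; omega)).pow_left 2).dvd_of_dvd_mul_left e
      have := h4.trans hk
      norm_num at this
  have h7all : Nat.card {g : G // orderOf g = 7} = n * 6 := SmallOrders.card_orderOf_eq_prime hS
  have hclass : ∀ {y : G}, orderOf y = 7 → Nat.card (centralizer ({y} : Set G)) = C := by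
    intro y hy
    obtain ⟨Q, hQ⟩ := SmallOrders.exists_sylow_eq_zpowers hS hx
    obtain ⟨R, hR⟩ := SmallOrders.exists_sylow_eq_zpowers hS hy
    obtain ⟨g, hg⟩ := MulAction.exists_smul_eq G Q R
    have hgen : ∀ {a b : G}, zpowers a = zpowers b →
        Nat.card (centralizer ({a} : Set G)) = Nat.card (centralizer ({b} : Set G)) := fun {a b} e => by
      rw [← centralizer_closure ({a} : Set G), ← zpowers_eq_closure, e, zpowers_eq_closure,
        centralizer_closure]
    rw [hC, ← card_centralizer_conj g x]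
    refine hgen ?_
    rw [← hR, ← hg, Sylow.coe_subgroup_smul, hQ, show g * x * g⁻¹ = (MulAut.conj g).toMonoidHom x from rfl,
      ← MonoidHom.map_zpowers]
    rfl
  -- elements of odd order
  have hpow : ∀ {y g : G}, orderOf y = 7 → Commute g y → g ^ 189 = 1 := by
    intro y g hy hc
    have h1 := Subgroup.orderOf_dvd_natCard _ (mem_centralizer_singleton_iff.2 hc)
    rw [hclass hy] at h1
    have h2 : C ∣ 189 := by
      rcases hcases with ⟨-, e⟩ | ⟨-, e⟩
      · exact ⟨k, e.symm⟩
      · have hd : C ∈ Nat.divisors 42 := Nat.mem_divisors.2 ⟨⟨k, e.symm⟩, by norm_num⟩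
        have key : ∀ d ∈ Nat.divisors 42, d % 2 = 1 → d ∣ 189 := by decide +kernel
        exact key C hd (Nat.odd_iff.1 hCo)
    exact orderOf_dvd_iff_pow_eq_one.1 (h1.trans h2)
  have h162 : ∀ {y g : G}, orderOf y = 7 → Commute g y → g ^ 162 ∈ zpowers y := by
    intro y g hy hc
    by_cases e : g ^ 162 = 1
    · rw [e]; exact one_mem _
    have ho : orderOf (g ^ 162) = 7 := orderOf_eq_prime (by
      rw [← pow_mul, show 162 * 7 = 189 * 6 by norm_num, pow_mul, hpow hy hc, one_pow]) e
    -- the Sylow subgroup of the centraliser is unique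
    obtain ⟨R, hR⟩ := SmallOrders.exists_sylow_eq_zpowers hS hy
    have hp : IsPGroup 7 (zpowers (g ^ 162) ⊔ zpowers y : Subgroup G) :=
      (IsPGroup.of_card (p := 7) (n := 1) (by rw [Nat.card_zpowers, ho, pow_one])).to_sup_of_normal_right'
        (IsPGroup.of_card (p := 7) (n := 1) (by rw [Nat.card_zpowers, hy, pow_one]))
        (zpowers_le.2 (mem_normalizer_fintype fun a ha => by
          obtain ⟨j, rfl⟩ := mem_zpowers_iff.1 ha
          rw [((hc.pow_left 162).zpow_right j).eq, mul_inv_cancel_right]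
          exact ha))
    have := R.is_maximal' hp (hR.le.trans le_sup_right)
    rw [← hR, ← this]
    exact mem_sup_left (mem_zpowers _)
  have hTC : ∀ {y : G}, orderOf y = 7 →
      7 * Nat.card {g : G // Commute g y ∧ g ^ 162 = y} = C := by
    intro y hy
    rw [← hy, ← Nat.card_zpowers, ← Nat.card_prod, ← hclass hy]
    have hmemc : ∀ {a : G}, a ∈ zpowers y → Commute a y := fun {a} ha => by
      obtain ⟨j, rfl⟩ := mem_zpowers_iff.1 ha
      exact Commute.zpow_self y j
    have h7 : ∀ {a : G}, a ∈ zpowers y → a ^ 162 = a := fun {a} ha => by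
      have : a ^ 7 = 1 := by
        rw [← hy]
        obtain ⟨j, rfl⟩ := mem_zpowers_iff.1 ha
        rw [← zpow_natCast, ← zpow_mul, mul_comm, zpow_mul, zpow_natCast, pow_orderOf_eq_one, one_zpow]
      rw [show 162 = 7 * 23 + 1 by norm_num, pow_succ, pow_mul, this, one_pow, one_mul]
    have hcc : ∀ {a g : G}, a ∈ zpowers y → Commute g y → Commute g a := fun {a g} ha hg => by
      obtain ⟨j, rfl⟩ := mem_zpowers_iff.1 ha
      exact hg.zpow_right j
    refine Nat.card_congr
      { toFun := fun p => ⟨(p.2 : G) * (y⁻¹ * (p.1 : G)), mem_centralizer_singleton_iff.2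
          (p.2.2.1.mul_left ((Commute.refl y).inv_left.mul_left (hmemc p.1.2)))⟩
        invFun := fun g => (⟨(g : G) ^ 162, h162 hy (mem_centralizer_singleton_iff.1 g.2)⟩,
          ⟨(g : G) * (((g : G) ^ 162)⁻¹ * y), ?_⟩)
        left_inv := fun p => ?_
        right_inv := fun g => ?_ }
    · have hg : Commute (g : G) y := mem_centralizer_singleton_iff.1 g.2
      have hp := h162 hy hg
      have hm : ((g : G) ^ 162)⁻¹ * y ∈ zpowers y := mul_mem (inv_mem hp) (mem_zpowers y)
      refine ⟨hg.mul_left (hmemc hm), ?_⟩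
      rw [(hcc hm hg).mul_pow, h7 hm, mul_inv_cancel_left]
    · obtain ⟨⟨a, ha⟩, ⟨g, hg, hgp⟩⟩ := p
      have hm : y⁻¹ * a ∈ zpowers y := mul_mem (inv_mem (mem_zpowers y)) ha
      have e : (g * (y⁻¹ * a)) ^ 162 = a := by
        rw [(hcc hm hg).mul_pow, hgp, h7 hm, mul_inv_cancel_left]
      refine Prod.ext (Subtype.ext e) (Subtype.ext ?_)
      show g * (y⁻¹ * a) * (((g * (y⁻¹ * a)) ^ 162)⁻¹ * y) = g
      rw [e]; group
    · refine Subtype.ext ?_
      show (g : G) * (((g : G) ^ 162)⁻¹ * y) * (y⁻¹ * (g : G) ^ 162) = g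
      group
  have hodd189 : ∀ {y g : G}, orderOf y = 7 → Commute g y → Odd (orderOf g) := fun hy hc =>
    Odd.of_dvd_nat (by decide) (orderOf_dvd_of_pow_eq_one (hpow hy hc))
  set D3 := {g : G // g ≠ 1 ∧ g ^ 27 = 1} with hD3
  let Φ : ((Σ y : {y : G // orderOf y = 7}, {g : G // Commute g y.1 ∧ g ^ 162 = y.1}) ⊕
      Option D3) → {g : G // Odd (orderOf g)} := fun s => match s with
    | .inl s => ⟨s.2.1, hodd189 s.1.2 s.2.2.1⟩
    | .inr none => ⟨1, by rw [orderOf_one]; exact odd_one⟩
    | .inr (some g) => ⟨g.1, Odd.of_dvd_nat (by decide) (orderOf_dvd_of_pow_eq_one g.2.2)⟩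
  have hΦ : Function.Injective Φ := by
    have h27 : ∀ {y g : G}, orderOf y = 7 → g ^ 162 = y → g ^ 27 ≠ 1 := by
      intro y g hy e e'
      rw [show 162 = 27 * 6 by norm_num, pow_mul, e', one_pow] at e
      rw [← e, orderOf_one] at hy
      omega
    rintro (⟨⟨y, hy⟩, ⟨g, hgc, hg⟩⟩ | _ | ⟨g, hg1, hg⟩)
      (⟨⟨y', hy'⟩, ⟨g', hgc', hg'⟩⟩ | _ | ⟨g', hg1', hg'⟩) e <;>
      have eg := congrArg Subtype.val e <;> simp only [Φ] at eg
    · subst eg
      obtain rfl := hg.symm.trans hg'
      rfl
    · exact absurd (by rw [eg, one_pow]) (h27 hy hg)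
    · exact absurd (by rw [eg, hg']) (h27 hy hg)
    · exact absurd (by rw [← eg, one_pow]) (h27 hy' hg')
    · rfl
    · exact absurd eg.symm hg1'
    · exact absurd (by rw [← eg, hg]) (h27 hy' hg')
    · exact absurd eg hg1
    · subst eg; rfl
  have hle := Nat.card_le_card_of_injective Φ hΦ
  rw [Nat.card_sum, Finite.card_option, Nat.card_sigma] at hle
  have hsum : ∀ m, 7 * m = C → n * 6 * m + (Nat.card D3 + 1) ≤ 3969 := by
    intro m hm
    refine le_trans ?_ hO
    rwa [Finset.sum_congr rfl (fun (y : {y : G // orderOf y = 7}) _ =>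
        (show _ = m by have := hTC y.2; omega)), Finset.sum_const, Finset.card_univ, smul_eq_mul,
      ← Nat.card_eq_fintype_card, h7all] at hle
  obtain ⟨m, hm⟩ := hC7
  have hsum := hsum m hm.symm
  have hsmall : (C = 63 ∧ n = 64 ∧ C * k = 189) ∨ (C = 7 ∧ k = 6) := by
    rw [Nat.odd_iff] at hCo
    rcases hcases with ⟨e, e'⟩ | ⟨e, e'⟩ <;> rw [e] at hsum
    · have hk' : k ∈ Nat.divisors 6 := Nat.mem_divisors.2 ⟨hk, by norm_num⟩
      fin_cases hk' <;> omega
    · have hk' : k ∈ Nat.divisors 6 := Nat.mem_divisors.2 ⟨hk, by norm_num⟩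
      fin_cases hk' <;> omega
  rcases hsmall with ⟨h63, h64, hN189⟩ | ⟨h7, h6⟩
  swap
  · -- the normaliser is a Frobenius group of order 42
    have hN42 : Nat.card (normalizer (zpowers x : Set G)) = 42 := by rw [hNx, h7, h6]
    set X := zpowers x with hX
    set N := normalizer (X : Set G) with hNdef
    let φ : N →* MulAut X := X.normalizerMonoidHom
    have hle' : centralizer (X : Set G) ≤ N := fun a ha => mem_normalizer_fintype fun b hb => by
      rw [← mem_centralizer_iff.1 ha b hb, mul_inv_cancel_right]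
      exact hb
    have hkmem : ∀ a : N, φ a = 1 ↔ Commute (a : G) x := by
      intro a
      rw [← MonoidHom.mem_ker, show φ.ker = (centralizer (X : Set G)).subgroupOf N from
        normalizerMonoidHom_ker X, mem_subgroupOf, hX, zpowers_eq_closure, centralizer_closure,
        mem_centralizer_singleton_iff]
      exact Iff.rfl
    obtain ⟨a, ha⟩ : ∃ a : N, orderOf a = 2 := exists_prime_orderOf_dvd_card' 2 (by rw [hN42]; norm_num)
    obtain ⟨b, hb⟩ : ∃ b : N, orderOf b = 3 := exists_prime_orderOf_dvd_card' 3 (by rw [hN42]; norm_num)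
    have hat : orderOf (a : G) = 2 := by rw [orderOf_coe, ha]
    have hinv : (a : G) * x * (a : G)⁻¹ = x⁻¹ := by
      obtain ⟨j, hj⟩ := mem_zpowers_iff.1 ((mem_normalizer_iff.1 a.2 x).1 (mem_zpowers x))
      have hjj : x ^ (j * j) = x := by
        rw [zpow_mul, hj, conj_zpow, hj, ← mul_assoc, ← mul_assoc, Involution.mul_self hat, one_mul,
          mul_assoc, ← mul_inv_rev, Involution.mul_self hat, inv_one, mul_one]
      have h1 : x ^ (j * j - 1) = 1 := by rw [zpow_sub, hjj, zpow_one, mul_inv_cancel]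
      have hd : ((7 : ℕ) : ℤ) ∣ (j - 1) * (j + 1) := by
        rw [show (j - 1) * (j + 1) = j * j - 1 by ring, ← hx]
        exact orderOf_dvd_iff_zpow_eq_one.2 h1
      rcases (Nat.prime_iff_prime_int.1 (by norm_num : Nat.Prime 7)).dvd_mul.1 hd with h' | h'
      · exfalso
        rw [← hx, orderOf_dvd_iff_zpow_eq_one, zpow_sub, zpow_one, mul_inv_eq_one, hj,
          mul_inv_eq_iff_eq_mul] at h'
        exact hno hx hat (show Commute x (a : G) from h'.symm)
      · rw [← hx, orderOf_dvd_iff_zpow_eq_one, zpow_add, zpow_one, hj] at h'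
        exact eq_inv_of_mul_eq_one_left h'
    -- the image is cyclic, so `a` and `b` commute modulo `X`
    set g := (b : G) * a * (b : G)⁻¹ * (a : G)⁻¹ with hgdef
    have hgX : g ∈ X := by
      have hker : φ (b * a * b⁻¹ * a⁻¹) = 1 := by
        have hcomm : ∀ p q : MulAut X, p * q = q * p := by
          intro p q
          refine MulEquiv.ext fun y => ?_
          obtain ⟨i, hi⟩ := MonoidHom.map_cyclic p.toMonoidHom
          obtain ⟨i', hi'⟩ := MonoidHom.map_cyclic q.toMonoidHom
          have hi₁ : ∀ y, p y = y ^ i := hi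
          have hi₂ : ∀ y, q y = y ^ i' := hi'
          show p (q y) = q (p y)
          rw [hi₁, hi₂, hi₂, hi₁, ← zpow_mul, ← zpow_mul, mul_comm]
        rw [_root_.map_mul, _root_.map_mul, _root_.map_mul, _root_.map_inv, _root_.map_inv, hcomm (φ b) (φ a), mul_inv_cancel_right,
          mul_inv_cancel]
      have hgc : g ∈ centralizer ({x} : Set G) :=
        mem_centralizer_singleton_iff.2 ((hkmem (b * a * b⁻¹ * a⁻¹)).1 hker)
      have : centralizer ({x} : Set G) = X := by
        refine (eq_of_le_of_card_ge (zpowers_le.2 (mem_centralizer_singleton_iff.2 rfl)) ?_).symm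
        rw [Nat.card_zpowers, hx, ← hC, h7]
      rwa [this] at hgc
    -- conjugate `a` by a square root of `g`
    obtain ⟨y, hy, hy2⟩ : ∃ y ∈ X, y * y = g⁻¹ := by
      refine ⟨g⁻¹ ^ 4, pow_mem (inv_mem hgX) 4, ?_⟩
      have h7' : (g⁻¹) ^ 7 = 1 := by
        obtain ⟨i, hi⟩ := mem_zpowers_iff.1 (inv_mem hgX)
        rw [← hi, ← hx, ← zpow_natCast, ← zpow_mul, mul_comm, zpow_mul, zpow_natCast,
          pow_orderOf_eq_one, one_zpow]
      rw [← pow_add, show 4 + 4 = 7 + 1 by norm_num, pow_succ, h7', one_mul]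
    -- `u` of order three commuting with `a`
    have hainv : ∀ y ∈ X, (a : G) * y * (a : G)⁻¹ = y⁻¹ := by
      intro y hy
      obtain ⟨i, rfl⟩ := mem_zpowers_iff.1 hy
      exact Involution.inverts_zpow hinv i
    have hcomX : ∀ c ∈ X, ∀ d ∈ X, Commute c d := fun c hc d hd => by
      obtain ⟨i, rfl⟩ := mem_zpowers_iff.1 hc
      obtain ⟨i', rfl⟩ := mem_zpowers_iff.1 hd
      exact (Commute.refl x).zpow_zpow _ _
    set u := y * (b : G) with hu
    have huN : u ∈ N := N.mul_mem (le_normalizer hy) b.2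
    have hua : Commute u (a : G) := by
      show y * (b : G) * a = (a : G) * (y * b)
      calc y * (b : G) * a = y * g * ((a : G) * b) := by rw [hgdef]; group
        _ = y⁻¹ * ((a : G) * b) := by
            rw [show y * g = y⁻¹ from eq_inv_of_mul_eq_one_left (by
              rw [show y * g * y = y * (g * y) by group,
                (hcomX g hgX y hy).eq, ← mul_assoc, hy2, inv_mul_cancel])]
        _ = (a : G) * y * (a : G)⁻¹ * ((a : G) * b) := by rw [hainv y hy]
        _ = (a : G) * (y * b) := by group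
    have hub : ¬ Commute u x := by
      intro hc
      have hbc : Commute (b : G) x := by
        have : Commute y x := by
          obtain ⟨i, rfl⟩ := mem_zpowers_iff.1 hy
          exact Commute.zpow_self x i
        have := this.inv_left.mul_left hc
        rwa [hu, inv_mul_cancel_left] at this
      have h3 := Subgroup.orderOf_dvd_natCard _ (mem_centralizer_singleton_iff.2 hbc)
      rw [← hC, h7, orderOf_coe, hb] at h3
      omega
    have hord := Subgroup.orderOf_dvd_natCard _ huN
    rw [hN42] at hord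
    have hu6 : u ^ 6 = 1 := by
      by_contra hne
      have h1 : (u ^ 6) ^ 7 = 1 := by
        rw [← pow_mul]; exact orderOf_dvd_iff_pow_eq_one.1 hord
      have ho := orderOf_eq_prime (p := 7) h1 hne
      have hcu : Commute (u ^ 6) (a : G) := hua.pow_left 6
      exact hno ho hat hcu
    have hu3 : orderOf (u ^ 2) = 3 := by
      refine orderOf_eq_prime (by rw [← pow_mul]; exact hu6) fun e => ?_
      have h2 : u * u ∈ (⊥ : Subgroup G) := by rw [mem_bot, ← pow_two, e]
      have hφ : φ ⟨u, huN⟩ * φ ⟨u, huN⟩ = 1 := by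
        rw [← _root_.map_mul, ← _root_.map_one φ]
        exact congrArg φ (Subtype.ext (mem_bot.1 h2))
      have hφu : φ ⟨u, huN⟩ = φ b := by
        have : φ ⟨y, le_normalizer hy⟩ = 1 := (hkmem _).2 (by
          obtain ⟨i, rfl⟩ := mem_zpowers_iff.1 hy
          exact Commute.zpow_self x i)
        rw [show (⟨u, huN⟩ : N) = ⟨y, le_normalizer hy⟩ * b from rfl, _root_.map_mul, this, one_mul]
      rw [hφu, ← pow_two] at hφ
      have hb3 : φ b ^ 3 = 1 := by rw [← _root_.map_pow, ← hb, pow_orderOf_eq_one, _root_.map_one]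
      have hb1 : φ b = 1 := by rw [pow_succ, hφ, one_mul] at hb3; exact hb3
      exact hub ((hkmem ⟨u, huN⟩).1 (hφu.trans hb1))
    exact Order6048.not_simple_double hG hx (by rw [← hC, h7]) hN42 hat hinv hu3 (hua.pow_left 2)
  -- `C = 63`
  have hD3 : Nat.card D3 ≤ 512 := by rw [h64] at hsum; omega
  have hN7 : ∀ {y : G}, orderOf y = 7 → Nat.card (normalizer (zpowers y : Set G)) = 189 := by
    intro y hy
    have := hN hy
    rw [h64] at this; omega
  obtain ⟨b₀', hb₀'⟩ := exists_prime_orderOf_dvd_card' (G := centralizer ({z} : Set G)) 3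
    (by rw [c.cent_card]; norm_num)
  rw [← Subgroup.orderOf_coe] at hb₀'
  set b₀ := (b₀' : G) with hb₀
  have hbz : Commute b₀ z := mem_centralizer_singleton_iff.1 b₀'.2
  have h6 := c.three hbz hb₀'
  set M := centralizer ({b₀} : Set G) with hM
  have hzM : z ∈ M := mem_centralizer_singleton_iff.2 hbz.symm
  have hM24 : 24 ≤ Nat.card M := by
    have hcls := S1875.class_card_mul b₀
    rw [hG, ← hM] at hcls
    have hle' : Nat.card {a : G // IsConj b₀ a} ≤ Nat.card D3 := Nat.card_le_card_of_injective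
      (fun a => (⟨a.1, fun e => by
          have := Involution.orderOf_eq_of_isConj a.2
          rw [e, orderOf_one, hb₀'] at this; omega,
        by
          refine orderOf_dvd_iff_pow_eq_one.1 ?_
          rw [← Involution.orderOf_eq_of_isConj a.2, hb₀']; norm_num⟩ : D3))
      (fun a b e => Subtype.ext (congrArg Subtype.val e :))
    by_contra hlt
    have := Nat.mul_le_mul (hle'.trans hD3) (Nat.le_of_lt_succ (not_le.1 hlt : Nat.card M < 23 + 1))
    omega
  have hM4 : ¬ 4 ∣ Nat.card M := by
    intro h4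
    obtain ⟨D, hD, hZD⟩ := Sylow.exists_subgroup_card_pow_succ (p := 2) (n := 1) (G := M)
      (by simpa using h4) (H := zpowers ⟨z, hzM⟩) (by
        rw [Nat.card_zpowers, pow_one, ← orderOf_coe]; exact c.z_ord)
    have hcomm := IsPGroup.commutative_of_card_eq_prime_sq (p := 2) (G := D) hD
    have hle' : D.map M.subtype ≤ pcent z b₀ := by
      rintro _ ⟨d, hd, rfl⟩
      refine mem_pcent.2 ⟨?_, mem_centralizer_singleton_iff.1 d.2⟩
      exact congrArg (fun t : D => ((t : M) : G))
        (hcomm ⟨d, hd⟩ ⟨⟨z, hzM⟩, hZD (mem_zpowers _)⟩)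
    have := card_dvd_of_le hle'
    rw [card_map_of_injective M.subtype_injective, hD, h6] at this
    norm_num at this
  have h2M : 2 ∣ Nat.card M := c.z_ord ▸ Subgroup.orderOf_dvd_natCard _ hzM
  have hMd : Nat.card M ∣ 12096 := hG ▸ M.card_subgroup_dvd_card
  have hMmem : Nat.card M ∈ Nat.divisors 378 := by
    refine Nat.mem_divisors.2 ⟨?_, by norm_num⟩
    have key : ∀ d ∈ Nat.divisors 12096, ¬ 4 ∣ d → d ∣ 378 := by decide +kernel
    exact key _ (Nat.mem_divisors.2 ⟨hMd, by norm_num⟩) hM4
  have h7M : ¬ 7 ∣ Nat.card M := by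
    intro h7
    have hS' : ∀ Q : Sylow 7 M, Nat.card (Q : Subgroup M) = 7 := fun Q => by
      refine (SmallOrders.card_sylow_subgroup (p := 7) (e := 1) (m := Nat.card M / 7) ?_ ?_ Q).trans
        (pow_one _)
      · rw [pow_one, Nat.mul_div_cancel' h7]
      · have key : ∀ d ∈ Nat.divisors 378, ¬ 7 * 7 ∣ d := by decide +kernel
        intro hdd
        exact key _ hMmem (by
          rw [← Nat.mul_div_cancel' h7]; exact Nat.mul_dvd_mul_left 7 hdd)
    obtain ⟨y, hy⟩ := exists_prime_orderOf_dvd_card' (G := M) 7 h7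
    obtain ⟨Q, hQ⟩ := SmallOrders.exists_sylow_eq_zpowers hS' hy
    have hmul := SmallOrders.card_normalizer_mul_card_sylow Q
    rw [hQ] at hmul
    set NM := normalizer (zpowers y : Set M) with hNM
    have hoN : ¬ 2 ∣ Nat.card NM := by
      intro h2
      obtain ⟨i, hi⟩ := exists_prime_orderOf_dvd_card' 2 h2
      have hy' : orderOf (y : G) = 7 := by rw [orderOf_coe]; exact hy
      have hmem : ((i : M) : G) ∈ normalizer (zpowers (y : G) : Set G) := by
        refine mem_normalizer_fintype fun a ha => ?_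
        obtain ⟨j, rfl⟩ := mem_zpowers_iff.1 ha
        obtain ⟨j', hj'⟩ := mem_zpowers_iff.1
          ((mem_normalizer_iff.1 i.2 (y ^ j)).1 (mem_zpowers_iff.2 ⟨j, rfl⟩))
        exact mem_zpowers_iff.2 ⟨j', by simpa using congrArg (fun t : M => (t : G)) hj'⟩
      have := Subgroup.orderOf_dvd_natCard _ hmem
      rw [hN7 hy', orderOf_coe, orderOf_coe, hi] at this
      norm_num at this
    have hev : 2 ∣ Nat.card (Sylow 7 M) :=
      ((Nat.prime_two.coprime_iff_not_dvd).2 hoN).dvd_of_dvd_mul_left (hmul ▸ h2M)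
    have hd : Nat.card (Sylow 7 M) ∣ Nat.card M / 7 := by
      rw [← SmallOrders.index_sylow (p := 7) (e := 1) (m := Nat.card M / 7)
        (by rw [pow_one, Nat.mul_div_cancel' h7]) (fun hdd => by
          have key : ∀ d ∈ Nat.divisors 378, ¬ 7 * 7 ∣ d := by decide +kernel
          exact key _ hMmem (by rw [← Nat.mul_div_cancel' h7]; exact Nat.mul_dvd_mul_left 7 hdd)) Q]
      exact Q.card_dvd_index
    have hmod := card_sylow_modEq_one 7 M
    have key : ∀ d ∈ Nat.divisors 378, ∀ e ∈ Nat.divisors (d / 7), e % 2 = 0 → e % 7 ≠ 1 := by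
      decide +kernel
    exact key _ hMmem _ (Nat.mem_divisors.2 ⟨hd, by
      have := Nat.card_pos (α := M); omega⟩) (Nat.mod_eq_zero_of_dvd hev) hmod
  have hM54 : Nat.card M = 54 := by
    have key : ∀ d ∈ Nat.divisors 378, ¬ 7 ∣ d → 24 ≤ d → 2 ∣ d → d = 54 := by decide +kernel
    exact key _ hMmem h7M hM24 h2M
  -- the Sylow 3-subgroup of `M`
  obtain ⟨P₀⟩ : Nonempty (Sylow 3 M) := inferInstance
  have hP₀ : Nat.card (P₀ : Subgroup M) = 27 :=
    SmallOrders.card_sylow_subgroup (p := 3) (e := 3) (m := 2) (by rw [hM54]; norm_num) (by norm_num) P₀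
  have hP₀i : (P₀ : Subgroup M).index = 2 :=
    SmallOrders.index_sylow (p := 3) (e := 3) (m := 2) (by rw [hM54]; norm_num) (by norm_num) P₀
  haveI := Subgroup.normal_of_index_eq_two hP₀i
  set P' := (P₀ : Subgroup M).map M.subtype with hP'
  have hP'card : Nat.card P' = 27 := by rw [hP', card_map_of_injective M.subtype_injective, hP₀]
  have hzP' : ∀ a ∈ P', z * a * z⁻¹ ∈ P' := by
    rintro _ ⟨d, hd, rfl⟩
    exact ⟨_, Normal.conj_mem inferInstance d hd ⟨z, hzM⟩, rfl⟩
  -- a conjugate of a subgroup of order nine of `C(x)` inside it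
  obtain ⟨B⟩ : Nonempty (Sylow 3 (centralizer ({x} : Set G))) := inferInstance
  have hB : Nat.card (B : Subgroup (centralizer ({x} : Set G))) = 9 :=
    SmallOrders.card_sylow_subgroup (p := 3) (e := 2) (m := 7) (by rw [← hC, h63]; norm_num) (by norm_num) B
  set B' := (B : Subgroup (centralizer ({x} : Set G))).map (centralizer ({x} : Set G)).subtype with hB'
  have hB'card : Nat.card B' = 9 := by rw [hB', card_map_of_injective (subtype_injective _), hB]
  let P : Sylow 3 G := Sylow.ofCard P' (by
    rw [hP'card, hG, Nat.factorization_def _ (by norm_num),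
      show (12096 : ℕ) = 3 ^ 3 * 448 by norm_num, padicValNat.mul (by norm_num) (by norm_num),
      padicValNat.prime_pow, padicValNat.eq_zero_of_not_dvd (by norm_num)]
    rfl)
  obtain ⟨R, hR⟩ := (IsPGroup.of_card (p := 3) (n := 2) (hB'card.trans (by norm_num)) :
    IsPGroup 3 B').exists_le_sylow
  obtain ⟨g, hg⟩ := MulAction.exists_smul_eq G R P
  have hgB : ∀ a ∈ B', g * a * g⁻¹ ∈ P' := fun a ha => by
    show g * a * g⁻¹ ∈ (P : Subgroup G)
    rw [← hg, Sylow.coe_subgroup_smul]
    exact ⟨a, hR ha, rfl⟩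
  set x' := g * x * g⁻¹ with hx'
  have hx'7 : orderOf x' = 7 := by rw [hx', Involution.orderOf_conj, hx]
  set B₁ := B'.map (MulAut.conj g).toMonoidHom with hB₁
  have hB₁P : B₁ ≤ P' := by rintro _ ⟨a, ha, rfl⟩; exact hgB a ha
  have hB₁c : ∀ a ∈ B₁, Commute a x' := by
    rintro _ ⟨a, ⟨d, -, rfl⟩, rfl⟩
    exact SemiconjBy.conj_iff.2 (mem_centralizer_singleton_iff.1 d.2)
  set B₂ := B₁.map (MulAut.conj z).toMonoidHom with hB₂
  have hB₂P : B₂ ≤ P' := by rintro _ ⟨a, ha, rfl⟩; exact hzP' a (hB₁P ha)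
  have hB₁card : Nat.card B₁ = 9 := by
    rw [hB₁, card_map_of_injective (MulAut.conj g).injective, hB'card]
  have hB₂card : Nat.card B₂ = 9 := by
    rw [hB₂, card_map_of_injective (MulAut.conj z).injective, hB₁card]
  -- a common element of order three
  have hmeet : B₁ ⊓ B₂ ≠ ⊥ := by
    intro e
    have hinj : Function.Injective (fun p : B₁ × B₂ =>
        (⟨(p.1 : G) * p.2, mul_mem (hB₁P p.1.2) (hB₂P p.2.2)⟩ : P')) := fun p q hpq => by
      exact Subgroup.mul_injective_of_disjoint (disjoint_iff.2 e) (congrArg Subtype.val hpq :)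
    have := Nat.card_le_card_of_injective _ hinj
    rw [Nat.card_prod, hB₁card, hB₂card, hP'card] at this
    omega
  have h3 : 3 ∣ Nat.card ↥(B₁ ⊓ B₂) := by
    have hd := card_dvd_of_le (inf_le_left : B₁ ⊓ B₂ ≤ B₁)
    rw [hB₁card] at hd
    obtain ⟨i, hi, hie⟩ := (Nat.dvd_prime_pow (show Nat.Prime 3 by norm_num) (m := 2)).1 hd
    rcases i with _ | i
    · exact absurd (eq_bot_of_card_eq _ (by rw [hie, pow_zero])) hmeet
    · rw [hie, pow_succ]; exact dvd_mul_left 3 _
  obtain ⟨b', hb'⟩ := exists_prime_orderOf_dvd_card' 3 h3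
  rw [← Subgroup.orderOf_coe] at hb'
  set b := (b' : G) with hbdef
  have hbx : Commute b x' := hB₁c b b'.2.1
  set x'' := z * x' * z⁻¹ with hx''
  have hbx'' : Commute b x'' := by
    obtain ⟨a, ha, hab⟩ := b'.2.2
    rw [show b = z * a * z⁻¹ from hab.symm]
    exact SemiconjBy.conj_iff.2 (hB₁c a ha)
  have hne'' : x'' ∉ zpowers x' := by
    intro hmem
    have hzN : z ∈ normalizer (zpowers x' : Set G) := mem_normalizer_fintype fun a ha => by
      obtain ⟨i, rfl⟩ := mem_zpowers_iff.1 ha
      rw [← conj_zpow, ← hx'']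
      exact zpow_mem hmem i
    have := c.z_ord ▸ Subgroup.orderOf_dvd_natCard _ hzN
    rw [hN7 hx'7] at this
    norm_num at this
  set Cb := centralizer ({b} : Set G) with hCb
  have hxCb : x' ∈ Cb := mem_centralizer_singleton_iff.2 hbx.symm
  have hx''Cb : x'' ∈ Cb := mem_centralizer_singleton_iff.2 hbx''.symm
  have h8 : 8 ∣ Nat.card Cb := by
    have hCd : Nat.card Cb ∣ 12096 := hG ▸ Cb.card_subgroup_dvd_card
    have hS' : ∀ Q : Sylow 7 Cb, Nat.card (Q : Subgroup Cb) = 7 := fun Q => by
      obtain ⟨i, hi⟩ := Q.isPGroup'.exists_card_eq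
      have h1 := ((Q : Subgroup Cb).map Cb.subtype).card_subgroup_dvd_card
      rw [card_map_of_injective Cb.subtype_injective, hG] at h1
      have h7' : 7 ∣ Nat.card (Q : Subgroup Cb) := by
        rw [Sylow.card_eq_multiplicity]
        refine dvd_pow_self 7 (Nat.pos_iff_ne_zero.1 ?_)
        exact (Fact.out : Nat.Prime 7).factorization_pos_of_dvd Nat.card_pos.ne'
          (hx'7 ▸ Subgroup.orderOf_dvd_natCard _ hxCb)
      rw [hi] at h1 h7' ⊢
      rcases i with _ | _ | i
      · norm_num at h7'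
      · norm_num
      · exfalso
        have : 7 ^ 2 ∣ 12096 := (pow_dvd_pow 7 (by omega)).trans h1
        norm_num at this
    obtain ⟨Q, hQ⟩ := SmallOrders.exists_sylow_eq_zpowers hS'
      (g := ⟨x', hxCb⟩) (by rw [← orderOf_coe]; exact hx'7)
    obtain ⟨Q', hQ'⟩ := SmallOrders.exists_sylow_eq_zpowers hS'
      (g := ⟨x'', hx''Cb⟩) ((Subgroup.orderOf_mk x'' hx''Cb).trans ((Involution.orderOf_conj z x').trans hx'7))
    have hne : Q ≠ Q' := fun e => by
      have hm : (⟨x'', hx''Cb⟩ : Cb) ∈ zpowers (⟨x', hxCb⟩ : Cb) := by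
        rw [← hQ, e, hQ']; exact mem_zpowers _
      obtain ⟨i, hi⟩ := mem_zpowers_iff.1 hm
      exact hne'' (mem_zpowers_iff.2 ⟨i, by simpa using congrArg Subtype.val hi⟩)
    have hn1 : Nat.card (Sylow 7 Cb) ≠ 1 := fun e => by
      haveI := (Nat.card_eq_one_iff_unique.1 e).1
      exact hne (Subsingleton.elim _ _)
    have hmul := SmallOrders.card_normalizer_mul_card_sylow Q
    -- 63 divides the normaliser
    set NQ := normalizer ((Q : Subgroup Cb) : Set Cb) with hNQ
    have h63' : 63 ∣ Nat.card NQ := by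
      have hsub : ∀ a ∈ B₁, ∃ h : a ∈ Cb, (⟨a, h⟩ : Cb) ∈ NQ := by
        intro a ha
        have hc : Commute a b := by
          have hP9 := IsPGroup.commutative_of_card_eq_prime_sq (p := 3) (G := B₁)
            (by rw [hB₁card]; norm_num)
          exact congrArg Subtype.val (hP9 ⟨a, ha⟩ ⟨b, b'.2.1⟩)
        refine ⟨mem_centralizer_singleton_iff.2 hc, ?_⟩
        rw [hNQ, hQ]
        refine mem_normalizer_fintype fun d hd => ?_
        obtain ⟨i, rfl⟩ := mem_zpowers_iff.1 hd
        refine mem_zpowers_iff.2 ⟨i, Subtype.ext ?_⟩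
        push_cast
        rw [((hB₁c a ha).zpow_right i).eq, mul_inv_cancel_right]
      have h9 : 9 ∣ Nat.card NQ := by
        have hle' : B₁ ≤ NQ.map Cb.subtype := fun a ha => by
          obtain ⟨h, hh⟩ := hsub a ha
          exact ⟨⟨a, h⟩, hh, rfl⟩
        have := card_dvd_of_le hle'
        rwa [hB₁card, card_map_of_injective Cb.subtype_injective] at this
      have h7' : 7 ∣ Nat.card NQ := hS' Q ▸ card_dvd_of_le le_normalizer
      exact Nat.Coprime.mul_dvd_of_dvd_of_dvd (by norm_num : Nat.Coprime 9 7) h9 h7'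
    have hd192 : Nat.card (Sylow 7 Cb) ∣ 192 := by
      obtain ⟨e, he⟩ := h63'
      have : 63 * (e * Nat.card (Sylow 7 Cb)) ∣ 63 * 192 := by
        rw [← mul_assoc, ← he, hmul]; exact hCd
      exact (dvd_mul_left _ e).trans (Nat.dvd_of_mul_dvd_mul_left (by norm_num) this)
    have key : ∀ d ∈ Nat.divisors 192, d % 7 = 1 → d = 1 ∨ 8 ∣ d := by decide +kernel
    have h8' := (key _ (Nat.mem_divisors.2 ⟨hd192, by norm_num⟩)
      (card_sylow_modEq_one 7 Cb)).resolve_left hn1
    exact hmul ▸ h8'.mul_left _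
  obtain ⟨D, hD⟩ := Sylow.exists_subgroup_card_pow_prime 2 (n := 3) (G := Cb) (by simpa using h8)
  haveI : Nontrivial D := Finite.one_lt_card_iff_nontrivial.1 (by rw [hD]; norm_num)
  haveI := (IsPGroup.of_card (p := 2) hD).center_nontrivial
  have h2c : 2 ∣ Nat.card (Subgroup.center D) := by
    obtain ⟨j, hj⟩ := IsPGroup.iff_card.1 ((IsPGroup.of_card (p := 2) hD).to_subgroup (Subgroup.center D))
    have := Finite.one_lt_card (α := Subgroup.center D)
    rw [hj] at this ⊢
    rcases j with _ | j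
    · norm_num at this
    · rw [pow_succ]; exact dvd_mul_left 2 _
  obtain ⟨i, hi⟩ := exists_prime_orderOf_dvd_card' 2 h2c
  set i' := ((i : D) : Cb) with hi'
  have hio : orderOf (i' : G) = 2 := by rw [orderOf_coe, hi', orderOf_coe, orderOf_coe, hi]
  have hib : Commute (i' : G) b := mem_centralizer_singleton_iff.1 i'.2
  have hsub : D.map Cb.subtype ≤ pcent (i' : G) b := by
    rintro _ ⟨d, hd, rfl⟩
    refine mem_pcent.2 ⟨?_, mem_centralizer_singleton_iff.1 d.2⟩
    exact congrArg (fun t : D => ((t : Cb) : G)) (Subgroup.mem_center_iff.1 i.2 ⟨d, hd⟩)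
  have h8i : 8 ∣ Nat.card (pcent (i' : G) b) := by
    have := card_dvd_of_le hsub
    rwa [card_map_of_injective Cb.subtype_injective, hD] at this
  rcases h.hall _ hio with hc | hc <;> obtain ⟨d, hd⟩ := isConj_iff.1 hc.symm
  · rw [← card_pcent_conj d, hd, c.three (by
      have : Commute (d * b * d⁻¹) (d * (i' : G) * d⁻¹) := SemiconjBy.conj_iff.2 hib.symm
      rwa [hd] at this) (by rw [Involution.orderOf_conj, hb'])] at h8i
    norm_num at h8i
  · rw [← card_pcent_conj d, hd] at h8i
    refine c.not_eight_dvd_three hna h.r_typ ?_ (by rw [Involution.orderOf_conj, hb']) h8i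
    have : Commute (d * b * d⁻¹) (d * (i' : G) * d⁻¹) := SemiconjBy.conj_iff.2 hib.symm
    rwa [hd] at this

include hna in
/-- The order is 95040. -/
theorem card_eq : Nat.card G = 95040 := by
  obtain ⟨r, hr, hall⟩ := c.exists_two_classes hna
  have h : Two z r := ⟨hr, hall⟩
  rcases c.order_cases hna h with ⟨h1, h2⟩ | ⟨h1, h2⟩ | h1
  · exact absurd h1 (c.card_ne_4416 hna h h2)
  · exact absurd h1 (c.card_ne_12096 hna h h2)
  · exact h1

end Coding

end Cfsg.Agent.TwelveCent
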