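import Cfsg.Agent.Lib.TwelveCent.Basic
import Cfsg.Agent.Lib.ZStar.Apply
import Cfsg.Agent.Lib.ZStar.Unique
import Cfsg.Agent.Lib.Cores.Basic
import Cfsg.Agent.Lib.Involution.StronglyEmbedded
import Cfsg.Agent.S1175

/-
A simple group with an involution `z` whose centraliser is coded by `cents`: it has exactly two
classes of involutions.

* `exists_sylow`, `not_conj_r`, `conj_z_iff`, `exists_two_classes`
-/

set_option autoImplicit false
set_option linter.unusedSectionVars false

open Cfsg Subgroup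

namespace Cfsg.Agent.TwelveCent

section conj

variable {G : Type*} [Group G] [Finite G]

theorem pcent_comm (a b : G) : pcent a b = pcent b a := inf_comm _ _

theorem conj_mem_pcent (g : G) {a b x : G} :
    g * x * g⁻¹ ∈ pcent (g * a * g⁻¹) (g * b * g⁻¹) ↔ x ∈ pcent a b := by
  rw [mem_pcent, mem_pcent]
  exact and_congr SemiconjBy.conj_iff SemiconjBy.conj_iff

theorem card_pcent_conj (g a b : G) :
    Nat.card (pcent (g * a * g⁻¹) (g * b * g⁻¹)) = Nat.card (pcent a b) :=
  (Nat.card_congr (Equiv.subtypeEquiv (MulAut.conj g).toEquiv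
    fun _ => (conj_mem_pcent g).symm)).symm

end conj

variable {G : Type*} [Group G] [Finite G] [IsSimpleGroup G] {z : G}

namespace Coding

variable (c : Coding z) (hna : ¬ IsMulCommutative G)

include hna in
theorem center_eq_bot : Subgroup.center G = ⊥ :=
  (IsSimpleGroup.eq_bot_or_eq_top_of_normal _ inferInstance).resolve_right fun h =>
    hna ⟨⟨fun a b => (Subgroup.mem_center_iff.1 (h ▸ mem_top b) a)⟩⟩

include c

/-- The subgroup of order 64 is a Sylow 2-subgroup of `G`. -/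
theorem exists_sylow : ∃ P : Sylow 2 G, Nat.card (P : Subgroup G) = 64 ∧ z ∈ P ∧
    (P : Subgroup G) ≤ Subgroup.centralizer ({z} : Set G) := by
  haveI := Fact.mk Nat.prime_two
  obtain ⟨S, hS, hcard, hzS, hc⟩ := c.sylow
  obtain ⟨P, hP⟩ := (IsPGroup.of_card (p := 2) (n := 6) (by rw [hcard]; norm_num)).exists_le_sylow
  suffices (P : Subgroup G) = S by exact ⟨P, this ▸ hcard, hP hzS, this ▸ hS⟩
  refine ((lt_or_eq_of_le hP).resolve_left fun hlt => ?_).symm
  haveI : Group.IsNilpotent (P : Subgroup G) := P.isPGroup'.isNilpotent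
  have hne : S.subgroupOf (P : Subgroup G) < ⊤ :=
    lt_top_iff_ne_top.2 fun e => hlt.ne (le_antisymm hP (subgroupOf_eq_top.1 e))
  obtain ⟨⟨g, hgP⟩, hg, hgS⟩ :=
    SetLike.exists_of_lt (Group.normalizerCondition_of_isNilpotent _ hne)
  have hgn : ∀ x ∈ S, g * x * g⁻¹ ∈ S := fun x hx => (mem_normalizer_iff.1 hg ⟨x, hP hx⟩).1 hx
  have hgN : g ∈ normalizer (S : Set G) := mem_normalizer_fintype hgn
  have hgz : Commute g z := by
    have h := hc (g * z * g⁻¹) (hgn z hzS) fun y hy => by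
      have hy' : g⁻¹ * y * g ∈ S := by
        rw [mem_normalizer_iff.1 hgN, show g * (g⁻¹ * y * g) * g⁻¹ = y by group]
        exact hy
      have h : Commute (g⁻¹ * y * g) z := mem_centralizer_singleton_iff.1 (hS hy')
      have h1 : Commute (g * (g⁻¹ * y * g) * g⁻¹) (g * z * g⁻¹) := SemiconjBy.conj_iff.2 h
      rw [show g * (g⁻¹ * y * g) * g⁻¹ = y by group] at h1
      exact h1.symm.eq
    rcases h with h | h
    · exact absurd (conj_eq_one_iff.1 h) (Involution.ne_one c.z_ord)
    · exact (mul_inv_eq_iff_eq_mul.1 h)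
  -- the join is a 2-group of order at least 128 in the centraliser
  set K := S ⊔ zpowers g with hK
  have hKC : K ≤ centralizer ({z} : Set G) := sup_le hS
    (zpowers_le.2 (mem_centralizer_singleton_iff.2 hgz))
  have hK2 : IsPGroup 2 K := P.isPGroup'.to_le (sup_le hP (zpowers_le.2 hgP))
  obtain ⟨n, hn⟩ := IsPGroup.iff_card.1 hK2
  have hlt' : Nat.card S < Nat.card K := by
    by_contra hle
    have e := eq_of_le_of_card_ge (le_sup_left : S ≤ K) (not_lt.1 hle)
    refine hgS ?_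
    show g ∈ S
    rw [e]
    exact mem_sup_right (mem_zpowers g)
  have hd := card_dvd_of_le hKC
  rw [hn, c.cent_card] at hd
  rw [hn, hcard] at hlt'
  have h7 : 7 ≤ n := by
    by_contra h
    have : 2 ^ n ≤ 2 ^ 6 := Nat.pow_le_pow_right (by norm_num) (by omega)
    omega
  have := (Nat.pow_dvd_pow 2 h7).trans hd
  norm_num at this

/-- An involution of the second type is not conjugate to `z`. -/
theorem not_conj_r {r : G} (hr : Typ z 16 r) : ¬ IsConj z r := by
  intro h
  obtain ⟨g, hg⟩ := isConj_iff.1 h.symm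
  set x := g * z * g⁻¹ with hx
  have hxz : Commute x z := by
    have : Commute x (g * r * g⁻¹) := SemiconjBy.conj_iff.2 hr.1.symm
    rwa [hg] at this
  have hne : x ≠ z := fun e => hr.2.2.1
    (mul_left_cancel (mul_right_cancel (e.trans hg.symm))).symm
  have hcard : Nat.card (pcent z x) = 16 := by
    rw [← hr.2.2.2, pcent_comm z r, ← card_pcent_conj g r z, hg]
  have hxr : Typ z 16 x := ⟨hxz, by rw [hx, Involution.orderOf_conj, c.z_ord], hne, hcard⟩
  obtain ⟨a, b, ha, har, hb, hbr, hab⟩ := c.r_comm_exists hr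
  have hm : ∀ {u : G}, Commute u z → Commute u r →
      Commute (g * u * g⁻¹) z ∧ Commute (g * u * g⁻¹) x := fun {u} hu hur => by
    refine ⟨?_, SemiconjBy.conj_iff.2 hu⟩
    have : Commute (g * u * g⁻¹) (g * r * g⁻¹) := SemiconjBy.conj_iff.2 hur
    rwa [hg] at this
  have hab' : g * a * g⁻¹ * (g * b * g⁻¹) = x * (g * b * g⁻¹ * (g * a * g⁻¹)) := by
    rw [hx, conj_mul, conj_mul, conj_mul, hab]
  rcases c.r_comm hxr (hm ha har).1 (hm ha har).2 (hm hb hbr).1 (hm hb hbr).2 with e | e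
  · rw [e] at hab'
    exact Involution.ne_one hxr.2.1 (mul_eq_right.1 hab'.symm)
  · rw [e] at hab'
    exact hne (mul_right_cancel hab').symm

/-- Every involution is conjugate to `z` or to an involution of one of the types. -/
theorem exists_conj_cent {t : G} (ht : orderOf t = 2) :
    ∃ g : G, Commute (g * t * g⁻¹) z := by
  haveI := Fact.mk Nat.prime_two
  obtain ⟨P, -, -, hP⟩ := c.exists_sylow
  obtain ⟨Q, hQ⟩ := (IsPGroup.of_card (p := 2) (G := zpowers t) (n := 1)
    (by rw [Nat.card_zpowers, ht, pow_one])).exists_le_sylow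
  obtain ⟨g, hg⟩ := MulAction.exists_smul_eq G Q P
  refine ⟨g, mem_centralizer_singleton_iff.1 (hP ?_)⟩
  rw [← hg, Sylow.coe_subgroup_smul]
  exact ⟨t, hQ (mem_zpowers t), rfl⟩

theorem typ_isConj_p {x y : G} (hx : Typ z 32 x) (hy : Typ z 32 y) :
    ∃ g, Commute g z ∧ g * x * g⁻¹ = y := c.typ_conj_aux c.p_count (by norm_num) hx hy

theorem typ_isConj_r {x y : G} (hx : Typ z 16 x) (hy : Typ z 16 y) :
    ∃ g, Commute g z ∧ g * x * g⁻¹ = y := c.typ_conj_aux c.r_count (by norm_num) hx hy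

theorem typ_isConj_t {x y : G} (hx : Typ z 8 x) (hy : Typ z 8 y) :
    ∃ g, Commute g z ∧ g * x * g⁻¹ = y := c.typ_conj_aux c.t_count (by norm_num) hx hy

include hna in
/-- The involutions of the first type are conjugate to `z`. -/
theorem p_conj {p₀ : G} (hp₀ : Typ z 32 p₀) : IsConj z p₀ := by
  classical
  by_contra hcon
  have hnp : ∀ p, Typ z 32 p → ¬ IsConj z p := fun p hp h => by
    obtain ⟨g, -, hg⟩ := c.typ_isConj_p hp hp₀
    exact hcon (h.trans (isConj_iff.2 ⟨g, hg⟩))
  have hzw : ∀ w, Commute w z → w ≠ z → IsConj z w → Typ z 8 w := by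
    intro w hw hne hcw
    rcases c.split hw ((Involution.orderOf_eq_of_isConj hcw).symm.trans c.z_ord) with h | h | h | h
    exacts [absurd h hne, absurd hcw (hnp w h), absurd hcw (c.not_conj_r h), h]
  -- `z` is not isolated
  obtain ⟨g₀, hg₀, hg₀ne⟩ : ∃ g : G, Commute z (g * z * g⁻¹) ∧ g * z * g⁻¹ ≠ z := by
    by_contra hcon'
    push Not at hcon'
    have h := ZStar.zStar_pElement ZStar.uniqueInvolution (x := z)
      ⟨1, by rw [c.z_ord, pow_one]⟩ hcon'
    haveI : (pPrimeCore 2 G).Normal := Cores.pPrimeCore_normal 2 G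
    have hz : z ∈ center G := by
      rcases IsSimpleGroup.eq_bot_or_eq_top_of_normal (pPrimeCore 2 G) inferInstance with e | e
      · refine mem_center_iff.2 fun g => ?_
        have h1 := h g
        rw [e, mem_bot, mul_inv_eq_one, mul_inv_eq_iff_eq_mul] at h1
        exact h1
      · exfalso
        have h1 := Cores.coprime_card_pPrimeCore (G := G) 2
        rw [e, card_top] at h1
        have h2 : 2 ∣ Nat.card G := c.z_ord ▸ orderOf_dvd_natCard z
        have h3 := Nat.coprime_two_right.1 h1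
        rw [Nat.odd_iff] at h3
        omega
    rw [center_eq_bot hna, mem_bot] at hz
    exact Involution.ne_one c.z_ord hz
  set x := g₀ * z * g₀⁻¹ with hx
  have hzx : IsConj z x := isConj_iff.2 ⟨g₀, rfl⟩
  have hxT : Typ z 8 x := hzw x hg₀.symm hg₀ne hzx
  obtain ⟨hab, -, hPc, hTc⟩ := c.t_cent hxT
  set E := pcent z x with hE
  have hzE : z ∈ E := mem_pcent.2 ⟨Commute.refl z, hxT.1.symm⟩
  -- the five conjugates of `z` in `E`
  have hswap : ∀ y, Typ z 8 y → y ∈ E → ∃ h ∈ normalizer (E : Set G), h * z * h⁻¹ = y := by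
    intro y hy hyE
    have hEy : pcent z y = E := by
      refine (eq_of_le_of_card_ge (fun a ha => mem_pcent.2
        ⟨(mem_pcent.1 ha).1, hab a ha y hyE⟩) ?_).symm
      rw [hy.2.2.2, hxT.2.2.2]
    obtain ⟨d, -, hd⟩ := c.typ_isConj_t hxT hy
    obtain ⟨g, hg⟩ := isConj_iff.1 (hzx.trans (isConj_iff.2 ⟨d, hd⟩)).symm
    have hw : Commute (g * z * g⁻¹) z := by
      have : Commute (g * z * g⁻¹) (g * y * g⁻¹) := SemiconjBy.conj_iff.2 hy.1.symm
      rwa [hg] at this
    have hwne : g * z * g⁻¹ ≠ z := fun e => hy.2.2.1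
      (mul_left_cancel (mul_right_cancel (e.trans hg.symm))).symm
    obtain ⟨b, hbz, hb⟩ := c.typ_isConj_t (hzw _ hw hwne (isConj_iff.2 ⟨g, rfl⟩)) hy
    have h1 : b * g * z * (b * g)⁻¹ = y := by rw [← hb]; group
    have h2 : b * g * y * (b * g)⁻¹ = z := by
      rw [show b * g * y * (b * g)⁻¹ = b * (g * y * g⁻¹) * b⁻¹ by group, hg, hbz.eq,
        mul_inv_cancel_right]
    refine ⟨b * g, mem_normalizer_iff.2 fun a => ?_, h1⟩
    have h3 := (conj_mem_pcent (b * g) (a := z) (b := y) (x := a)).symm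
    rw [h1, h2, pcent_comm y z, hEy] at h3
    exact h3
  set N := normalizer (E : Set G) with hN
  have hzN : z ∈ N := le_normalizer hzE
  have hiff : ∀ a : G, (∃ n ∈ N, n * z * n⁻¹ = a) ↔
      a ∈ insert z {a | Commute a z ∧ Commute a x ∧ Typ z 8 a} := by
    intro a
    refine ⟨?_, ?_⟩
    · rintro ⟨n, hn, rfl⟩
      have hmem : n * z * n⁻¹ ∈ E := (mem_normalizer_iff.1 hn z).1 hzE
      rw [hE, mem_pcent] at hmem
      by_cases e : n * z * n⁻¹ = z
      · exact Set.mem_insert_iff.2 (.inl e)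
      · exact Set.mem_insert_iff.2 (.inr ⟨hmem.1, hmem.2,
          hzw _ hmem.1 e (isConj_iff.2 ⟨n, rfl⟩)⟩)
    · intro h
      rcases Set.mem_insert_iff.1 h with e | ⟨h1, h2, h3⟩
      · exact ⟨1, one_mem _, by rw [e, one_mul, inv_one, mul_one]⟩
      · exact hswap a h3 (mem_pcent.2 ⟨h1, h2⟩)
  have hcls : Nat.card {a : N // IsConj (⟨z, hzN⟩ : N) a} = 5 := by
    have h5 : (insert z {a | Commute a z ∧ Commute a x ∧ Typ z 8 a}).ncard = 5 := by
      rw [Set.ncard_insert_of_notMem (fun h => h.2.2.2.2.1 rfl), hTc]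
    rw [← h5, ← Nat.card_coe_set_eq]
    refine Nat.card_eq_of_bijective
      (fun a => ⟨((a : N) : G), (hiff _).1 ?_⟩) ⟨fun a b h => ?_, fun a => ?_⟩
    · obtain ⟨n, hn⟩ := isConj_iff.1 a.2
      exact ⟨n, n.2, congrArg Subtype.val hn⟩
    · exact Subtype.ext (Subtype.ext (congrArg Subtype.val h :))
    · obtain ⟨n, hn, e⟩ := (hiff a).2 a.2
      refine ⟨⟨⟨n * z * n⁻¹, N.mul_mem (N.mul_mem hn hzN) (N.inv_mem hn)⟩,
        isConj_iff.2 ⟨⟨n, hn⟩, rfl⟩⟩, Subtype.ext e⟩
  have h5 : 5 ∣ Nat.card N := by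
    rw [← S1875.class_card_mul (⟨z, hzN⟩ : N), hcls]
    exact dvd_mul_right _ _
  haveI : Fact (Nat.Prime 5) := ⟨by norm_num⟩
  obtain ⟨f, hf⟩ := exists_prime_orderOf_dvd_card' 5 h5
  rw [← Subgroup.orderOf_coe] at hf
  obtain ⟨p, q, hpq, hset⟩ := Set.ncard_eq_two.1 hPc
  have hmemP : ∀ a, a ∈ E → Typ z 32 a → a = p ∨ a = q := fun a ha h => by
    have : a ∈ {a | Commute a z ∧ Commute a x ∧ Typ z 32 a} :=
      ⟨(mem_pcent.1 ha).1, (mem_pcent.1 ha).2, h⟩
    rw [hset] at this
    simpa using this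
  have hp : p ∈ E ∧ Typ z 32 p := by
    have : p ∈ {a | Commute a z ∧ Commute a x ∧ Typ z 32 a} := by rw [hset]; exact Set.mem_insert _ _
    exact ⟨mem_pcent.2 ⟨this.1, this.2.1⟩, this.2.2⟩
  have hq : q ∈ E ∧ Typ z 32 q := by
    have : q ∈ {a | Commute a z ∧ Commute a x ∧ Typ z 32 a} := by
      rw [hset]; exact Set.mem_insert_of_mem _ rfl
    exact ⟨mem_pcent.2 ⟨this.1, this.2.1⟩, this.2.2⟩
  have hstep : ∀ a ∈ E, Typ z 32 a → (f : G) * a * (f : G)⁻¹ ∈ E ∧
      Typ z 32 ((f : G) * a * (f : G)⁻¹) := by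
    intro a ha hta
    have hmem : (f : G) * a * (f : G)⁻¹ ∈ E := (mem_normalizer_iff.1 f.2 a).1 ha
    refine ⟨hmem, ?_⟩
    have hz1 : ∀ b, IsConj z b → b = (f : G) * a * (f : G)⁻¹ → False := fun b hb e =>
      hnp a hta (hb.trans (e ▸ (isConj_iff.2 ⟨_, rfl⟩ : IsConj a ((f : G) * a * (f : G)⁻¹)).symm))
    rcases (c.t_cent hxT).2.1 _ hmem with e | e | e | e
    · exact absurd (conj_eq_one_iff.1 e) (Involution.ne_one hta.2.1)
    · exact absurd e.symm (hz1 z (IsConj.refl z))
    · exact e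
    · obtain ⟨d, -, hd⟩ := c.typ_isConj_t hxT e
      exact absurd rfl (hz1 _ (hzx.trans (isConj_iff.2 ⟨d, hd⟩)))
  have hfix : ∀ a ∈ E, Typ z 32 a → Commute (f : G) a := by
    intro a ha hta
    obtain ⟨ha1, hta1⟩ := hstep a ha hta
    obtain ⟨ha2, hta2⟩ := hstep _ ha1 hta1
    have hsq : Commute ((f : G) ^ 2) a := by
      have key : (f : G) ^ 2 * a * ((f : G) ^ 2)⁻¹ = a := by
        rw [show (f : G) ^ 2 * a * ((f : G) ^ 2)⁻¹ =
          (f : G) * ((f : G) * a * (f : G)⁻¹) * (f : G)⁻¹ by rw [pow_two]; group]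
        by_cases e : (f : G) * a * (f : G)⁻¹ = a
        · rw [e, e]
        · rcases hmemP _ ha hta with h1 | h1 <;> rcases hmemP _ ha1 hta1 with h2 | h2 <;>
            rcases hmemP _ ha2 hta2 with h3 | h3
          all_goals first
            | exact h3.trans h1.symm
            | exact absurd (h2.trans h1.symm) e
            | exact absurd (mul_left_cancel (mul_right_cancel (h3.trans h2.symm))) e
      exact mul_inv_eq_iff_eq_mul.1 key
    have h6 : (f : G) = ((f : G) ^ 2) ^ 3 := by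
      rw [← pow_mul, pow_succ, ← hf, pow_orderOf_eq_one, one_mul]
    rw [h6]
    exact hsq.pow_left 3
  have hpqz : p * q = z := by
    rcases (c.p_mul hp.2 hq.2).2 with e | e | e
    · exact absurd ((eq_inv_of_mul_eq_one_left e).trans (Involution.inv_eq hq.2.2.1)) hpq
    · exact e
    · rcases hmemP _ (mul_mem hp.1 hq.1) e with h | h
      · exact absurd (mul_eq_left.1 h) (Involution.ne_one hq.2.2.1)
      · exact absurd (mul_eq_right.1 h) (Involution.ne_one hp.2.2.1)
  have hfz : Commute (f : G) z :=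
    hpqz ▸ (hfix p hp.1 hp.2).mul_right (hfix q hq.1 hq.2)
  have := Subgroup.orderOf_dvd_natCard _ (mem_centralizer_singleton_iff.2 hfz)
  rw [hf, c.cent_card] at this
  norm_num at this

/-- `z` times an involution of the first type is another one. -/
theorem z_mul_p {p : G} (hp : Typ z 32 p) : Typ z 32 (z * p) := by
  have hz2 := Involution.mul_self c.z_ord
  refine ⟨(Commute.refl z).mul_left hp.1, Involution.orderOf_of_sq ?_ ?_, ?_, ?_⟩
  · rw [hp.1.mul_mul_mul_comm, hz2, one_mul, Involution.mul_self hp.2.1]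
  · exact fun e => hp.2.2.1 ((eq_inv_of_mul_eq_one_right e).trans (Involution.inv_eq c.z_ord))
  · exact fun e => Involution.ne_one hp.2.1 (mul_eq_left.1 e)
  · rw [← hp.2.2.2]
    refine Nat.card_congr (Equiv.subtypeEquivRight fun a => ?_)
    rw [mem_pcent, mem_pcent]
    refine ⟨fun h => ⟨h.1, ?_⟩, fun h => ⟨h.1, h.1.mul_right h.2⟩⟩
    have := h.1.mul_right h.2
    rwa [← mul_assoc, hz2, one_mul] at this

include hna in
/-- The involutions of the third type are conjugate to `z`. -/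
theorem t_conj {t₀ : G} (ht₀ : Typ z 8 t₀) : IsConj z t₀ := by
  classical
  by_contra hcon
  have hnt : ∀ t, Typ z 8 t → ¬ IsConj z t := fun t ht h => by
    obtain ⟨g, -, hg⟩ := c.typ_isConj_t ht ht₀
    exact hcon (h.trans (isConj_iff.2 ⟨g, hg⟩))
  have hzp : ∀ p, Typ z 32 p → Typ z 32 (z * p) := fun p hp => c.z_mul_p hp
  -- the elementary abelian group
  let M₀ : Submonoid G :=
    { carrier := {a | a = 1 ∨ a = z ∨ Typ z 32 a}
      one_mem' := .inl rfl
      mul_mem' := by
        rintro a b (rfl | rfl | ha) hb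
        · rwa [one_mul]
        · rcases hb with rfl | rfl | hb
          · exact .inr (.inl (mul_one _))
          · exact .inl (Involution.mul_self c.z_ord)
          · exact .inr (.inr (hzp b hb))
        · rcases hb with rfl | rfl | hb
          · exact .inr (.inr (by rwa [mul_one]))
          · exact .inr (.inr (ha.1.eq ▸ hzp a ha))
          · exact (c.p_mul ha hb).2 }
  have hsq : ∀ a ∈ M₀, a * a = 1 := by
    rintro a (rfl | rfl | ha)
    exacts [one_mul _, Involution.mul_self c.z_ord, Involution.mul_self ha.2.1]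
  let A : Subgroup G :=
    { M₀ with
      inv_mem' := fun {a} ha => by
        rw [inv_eq_of_mul_eq_one_right (hsq a ha)]
        exact ha }
  have hAiff : ∀ a, a ∈ A ↔ a = 1 ∨ a = z ∨ Typ z 32 a := fun _ => Iff.rfl
  have hAcomm : ∀ a ∈ A, ∀ b ∈ A, Commute a b := fun a ha b hb => by
    show a * b = b * a
    calc a * b = (a * b)⁻¹ := (inv_eq_of_mul_eq_one_right (hsq _ (A.mul_mem ha hb))).symm
      _ = b * a := by rw [mul_inv_rev, inv_eq_of_mul_eq_one_right (hsq a ha),
          inv_eq_of_mul_eq_one_right (hsq b hb)]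
  have hzA : z ∈ A := (hAiff z).2 (.inr (.inl rfl))
  have hconjA : ∀ a ∈ A, a ≠ 1 → IsConj z a := by
    intro a ha hne
    rcases (hAiff a).1 ha with e | e | e
    exacts [absurd e hne, e ▸ IsConj.refl z, c.p_conj hna e]
  have hinA : ∀ a, IsConj z a → Commute a z → a ∈ A := by
    intro a hca haz
    rcases c.split haz ((Involution.orderOf_eq_of_isConj hca).symm.trans c.z_ord) with h | h | h | h
    exacts [(hAiff a).2 (.inr (.inl h)), (hAiff a).2 (.inr (.inr h)), absurd hca (c.not_conj_r h),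
      absurd hca (hnt a h)]
  have hset : {b | IsConj z b ∧ Commute b z} = (A : Set G) \ {1} := by
    ext b
    exact ⟨fun h => ⟨hinA b h.1 h.2, fun e => Involution.ne_one
      ((Involution.orderOf_eq_of_isConj h.1).symm.trans c.z_ord) e⟩,
      fun h => ⟨hconjA b h.1 h.2, hAcomm b h.1 z hzA⟩⟩
  -- conjugates of `z` commuting with an element of `A`
  have hclosed : ∀ a ∈ A, a ≠ 1 → ∀ b, IsConj z b → Commute b a → b ∈ A := by
    intro a ha hane b hb hba
    obtain ⟨g, hg⟩ := isConj_iff.1 (hconjA a ha hane)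
    have hsub : (A : Set G) \ {1} ⊆ {b | IsConj z b ∧ Commute b a} :=
      fun x hx => ⟨hconjA x hx.1 hx.2, hAcomm x hx.1 a ha⟩
    have himg : {b | IsConj z b ∧ Commute b a} = MulAut.conj g '' {b | IsConj z b ∧ Commute b z} := by
      ext y
      simp only [Set.mem_image, Set.mem_ofPred_eq, MulAut.conj_apply]
      constructor
      · rintro ⟨h1, h2⟩
        refine ⟨g⁻¹ * y * g, ⟨h1.trans (isConj_iff.2 ⟨g⁻¹, by group⟩), ?_⟩, by group⟩
        have h3 : Commute (g⁻¹ * y * g⁻¹⁻¹) (g⁻¹ * a * g⁻¹⁻¹) := SemiconjBy.conj_iff.2 h2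
        rwa [inv_inv, ← hg, show g⁻¹ * (g * z * g⁻¹) * g = z by group] at h3
      · rintro ⟨u, ⟨h1, h2⟩, rfl⟩
        exact ⟨h1.trans (isConj_iff.2 ⟨g, rfl⟩), hg ▸ SemiconjBy.conj_iff.2 h2⟩
    have he : (A : Set G) \ {1} = {b | IsConj z b ∧ Commute b a} := by
      refine Set.eq_of_subset_of_ncard_le hsub (le_of_eq ?_)
      rw [himg, Set.ncard_image_of_injective _ (MulAut.conj g).injective, hset]
    have hb' : b ∈ (A : Set G) \ {1} := he.symm ▸ (⟨hb, hba⟩ : b ∈ {b | IsConj z b ∧ Commute b a})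
    exact hb'.1
  set N := normalizer (A : Set G) with hNdef
  have hnorm : ∀ g, g * z * g⁻¹ ∈ A → g ∈ N := by
    intro g hg
    refine mem_normalizer_fintype fun x hx => ?_
    by_cases h1 : x = 1
    · rw [h1, mul_one, mul_inv_cancel]; exact one_mem A
    refine hclosed _ hg (fun e => Involution.ne_one c.z_ord (conj_eq_one_iff.1 e)) _
      ((hconjA x hx h1).trans (isConj_iff.2 ⟨g, rfl⟩)) (SemiconjBy.conj_iff.2 (hAcomm x hx z hzA))
  have hcentN : ∀ a ∈ A, a ≠ 1 → centralizer ({a} : Set G) ≤ N := by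
    intro a ha hane h hh
    obtain ⟨g, hg⟩ := isConj_iff.1 (hconjA a ha hane)
    have h2 : h * g ∈ N := hnorm _ (by
      rw [show h * g * z * (h * g)⁻¹ = h * (g * z * g⁻¹) * h⁻¹ by group, hg,
        mem_centralizer_singleton_iff.1 hh, mul_inv_cancel_right]
      exact ha)
    have := N.mul_mem h2 (N.inv_mem (hnorm g (hg.symm ▸ ha)))
    rwa [mul_inv_cancel_right] at this
  have hNtop : N ≠ ⊤ := by
    intro e
    haveI : A.Normal := normalizer_eq_top_iff.1 e
    rcases IsSimpleGroup.eq_bot_or_eq_top_of_normal A inferInstance with h | h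
    · exact Involution.ne_one c.z_ord (mem_bot.1 (h ▸ hzA))
    · exact hna ⟨⟨fun a b => hAcomm a (h ▸ mem_top a) b (h ▸ mem_top b)⟩⟩
  obtain ⟨H, hH⟩ := S1175.result N hNtop z c.z_ord (le_normalizer hzA)
    (by
      obtain ⟨P, -, hzP, hPC⟩ := c.exists_sylow
      exact ⟨P, hzP, fun s hs => mem_centralizer_singleton_iff.1 (hPC hs)⟩)
    (by
      intro g hg
      set u := g * z * g⁻¹ with hu
      have hu2 : u * u = 1 := Involution.mul_self (by rw [hu, Involution.orderOf_conj, c.z_ord])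
      have huc : IsConj z u := isConj_iff.2 ⟨g, rfl⟩
      -- `u` fixes a nontrivial element of `A`
      have huz : u * z * u⁻¹ ∈ A := (mem_normalizer_iff.1 hg z).1 hzA
      have hui : u⁻¹ = u := inv_eq_of_mul_eq_one_right hu2
      obtain ⟨a, ha, hane, hau⟩ : ∃ a ∈ A, a ≠ 1 ∧ Commute u a := by
        by_cases e : z * (u * z * u⁻¹) = 1
        · refine ⟨z, hzA, Involution.ne_one c.z_ord, mul_inv_eq_iff_eq_mul.1 ?_⟩
          rw [eq_inv_of_mul_eq_one_right e, Involution.inv_eq c.z_ord]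
        · refine ⟨_, A.mul_mem hzA huz, e, mul_inv_eq_iff_eq_mul.1 ?_⟩
          rw [show u * (z * (u * z * u⁻¹)) * u⁻¹ = u * z * u⁻¹ * ((u * u) * z * (u * u)⁻¹) by group,
            hu2, one_mul, inv_one, mul_one]
          exact (hAcomm z hzA _ huz).symm.eq
      exact hnorm g (hclosed a ha hane u huc hau))
    (by
      intro g hcomm hne
      have hu : g * z * g⁻¹ ∈ A := hinA _ (isConj_iff.2 ⟨g, rfl⟩) hcomm.symm
      exact hcentN _ (A.mul_mem hzA hu) fun e => hne
        ((eq_inv_of_mul_eq_one_right e).trans (Involution.inv_eq c.z_ord)))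
  obtain ⟨r, hr⟩ : ∃ r, Typ z 16 r := by
    have := c.r_count
    exact Set.nonempty_of_ncard_ne_zero (s := {x | Typ z 16 x}) (by omega)
  exact c.not_conj_r hr (Involution.isConj_involutions hH c.z_ord hr.2.1)

include hna in
/-- In the centraliser of `z` the conjugates of `z` are the involutions not of the second type. -/
theorem conj_z_iff {x : G} (hx : Commute x z) (h2 : orderOf x = 2) :
    IsConj z x ↔ ¬ Typ z 16 x := by
  refine ⟨fun h hr => c.not_conj_r hr h, fun h => ?_⟩
  rcases c.split hx h2 with e | e | e | e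
  exacts [e ▸ IsConj.refl z, c.p_conj hna e, absurd e h, c.t_conj hna e]

include hna in
/-- Two classes of involutions. -/
theorem exists_two_classes : ∃ r, Typ z 16 r ∧
    ∀ t : G, orderOf t = 2 → IsConj z t ∨ IsConj r t := by
  obtain ⟨r, hr⟩ : ∃ r, Typ z 16 r := by
    have := c.r_count
    exact Set.nonempty_of_ncard_ne_zero (s := {x | Typ z 16 x}) (by omega)
  refine ⟨r, hr, fun t ht => ?_⟩
  obtain ⟨g, hg⟩ := c.exists_conj_cent ht
  have hback : IsConj (g * t * g⁻¹) t := (isConj_iff.2 ⟨g, rfl⟩ : IsConj t (g * t * g⁻¹)).symm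
  by_cases h : Typ z 16 (g * t * g⁻¹)
  · obtain ⟨d, -, hd⟩ := c.typ_isConj_r hr h
    exact .inr ((isConj_iff.2 ⟨d, hd⟩).trans hback)
  · exact .inl (((c.conj_z_iff hna hg (by rw [Involution.orderOf_conj, ht])).2 h).trans hback)

end Coding

end Cfsg.Agent.TwelveCent
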