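import Cfsg.Agent.Lib.TwelveCent.Klein
import Mathlib.GroupTheory.Transfer

/-
The centraliser `W` of the second involution, abstractly: a Sylow subgroup `W₀` of order 16, a
four group `V` made of the involutions of one kind, and a central involution `r`.

* `PreSecond.exists_kernel` : a normal subgroup of index four containing the four group
* `Second.cases` : the order of `W` and the two counts entering the order formula
-/

set_option autoImplicit false
set_option linter.unusedSectionVars false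

open Subgroup

namespace Cfsg.Agent.TwelveCent

universe u

/-- The hypotheses on `W` entering the transfer. -/
structure PreSecond {W : Type*} [Group W] (W₀ V : Subgroup W) (Z : W → Prop) (r w : W) : Prop where
  central : ∀ g, g * r = r * g
  r_sq : r * r = 1
  r_mem : r ∈ W₀
  card_zero : Nat.card W₀ = 16
  odd_index : Odd W₀.index
  le : V ≤ W₀
  card_four : Nat.card V = 4
  sq : ∀ a ∈ V, a * a = 1
  r_not : r ∉ V
  z_of_mem : ∀ v ∈ V, v ≠ 1 → Z v
  mem_of_z : ∀ v ∈ W₀, Z v → v ∈ V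
  z_conj : ∀ g v, Z v → Z (g * v * g⁻¹)
  z_ord : ∀ v, Z v → v * v = 1 ∧ v ≠ 1
  w_mem : w ∈ W₀
  w_sq : w * w = 1
  w_not : ¬ Z w
  w_not' : w ∉ V
  wr_not : w * r ∉ V

/-- The hypotheses on `W`. -/
structure Second {W : Type*} [Group W] (W₀ V : Subgroup W) (Z : W → Prop) (r w : W) : Prop
    extends PreSecond W₀ V Z r w where
  z_cent : ∀ v, Z v → Nat.card (centralizer ({v} : Set W)) = 16

namespace PreSecond

variable {W : Type u} [Group W] [Finite W] {W₀ V : Subgroup W} {Z : W → Prop} {r w : W}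

theorem w_ne (h : PreSecond W₀ V Z r w) : w ≠ 1 := fun e => h.w_not' (e ▸ one_mem V)

theorem normal_four (h : PreSecond W₀ V Z r w) : (V.subgroupOf W₀).Normal := by
  refine ⟨fun a ha g => ?_⟩
  rw [mem_subgroupOf] at ha ⊢
  by_cases e : (a : W) = 1
  · push_cast
    rw [e, mul_one, mul_inv_cancel]
    exact one_mem V
  · exact h.mem_of_z _ (g * a * g⁻¹).2 (by
      push_cast
      exact h.z_conj _ _ (h.z_of_mem _ ha e))

theorem z_not_conj_mem (h : PreSecond W₀ V Z r w) {v : W} (hv : Z v) :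
    ∀ g : W, g⁻¹ * v * g ∈ W₀ → g⁻¹ * v * g ∈ V := fun g hg =>
  h.mem_of_z _ hg (by simpa using h.z_conj g⁻¹ v hv)

/-- A normal subgroup of index four containing `V` and not `r`, with every involution conjugate
to one in `V`. -/
theorem exists_kernel (h : PreSecond W₀ V Z r w) : ∃ (A : Type u) (_ : CommGroup A) (τ : W →* A),
    Nat.card A = 4 ∧ τ.ker.index = 4 ∧ τ r ≠ 1 ∧ τ r * τ r = 1 ∧ ∀ v, Z v → τ v = 1 := by
  classical
  haveI := h.normal_four
  haveI := Fintype.ofFinite (W ⧸ W₀)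
  haveI := Fact.mk Nat.prime_two
  have hcardA : Nat.card (↥W₀ ⧸ V.subgroupOf W₀) = 4 := by
    have h1 := (V.subgroupOf W₀).card_mul_index
    rw [Nat.card_congr (Subgroup.subgroupOfEquivOfLe h.le).toEquiv, h.card_four, h.card_zero,
      Subgroup.index_eq_card] at h1
    omega
  let iA : CommGroup (↥W₀ ⧸ V.subgroupOf W₀) :=
    { (inferInstance : Group (↥W₀ ⧸ V.subgroupOf W₀)) with
      mul_comm := (IsPGroup.commutative_of_card_eq_prime_sq (p := 2) (by rw [hcardA]; rfl)) }
  let π : ↥W₀ →* ↥W₀ ⧸ V.subgroupOf W₀ := QuotientGroup.mk' _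
  have hπ : ∀ a : W₀, π a = 1 ↔ (a : W) ∈ V := fun a => by
    rw [QuotientGroup.mk'_apply, QuotientGroup.eq_one_iff, mem_subgroupOf]
  have hpow2 : ∀ (x : W), x * x = 1 → ∀ k : ℕ, x ^ k = if Even k then 1 else x := by
    intro x hx k
    rcases Nat.even_or_odd k with ⟨m, rfl⟩ | ⟨m, rfl⟩
    · rw [if_pos ⟨m, rfl⟩, ← two_mul, pow_mul, pow_two, hx, one_pow]
    · rw [if_neg (Nat.not_even_two_mul_add_one m), pow_succ, pow_mul, pow_two, hx, one_pow, one_mul]
  haveI : W₀.FiniteIndex := inferInstance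
  let τ : W →* ↥W₀ ⧸ V.subgroupOf W₀ := MonoidHom.transfer π
  have hτZ : ∀ v, Z v → τ v = 1 := by
    intro v hv
    show MonoidHom.transfer π v = 1
    rw [MonoidHom.transfer_eq_prod_quotient_orbitRel_zpowers_quot]
    refine Finset.prod_eq_one fun q _ => (hπ _).2 ?_
    have hm := QuotientGroup.out_conj_pow_minimalPeriod_mem W₀ v q.out
    show q.out.out⁻¹ * v ^ Function.minimalPeriod (v • ·) q.out * q.out.out ∈ V
    rw [hpow2 v (h.z_ord v hv).1] at hm ⊢
    split_ifs at hm ⊢ with he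
    · rw [mul_one, inv_mul_cancel]
      exact one_mem V
    · exact h.z_not_conj_mem hv _ hm
  have hπr : π ⟨r, h.r_mem⟩ ≠ 1 := fun e => h.r_not ((hπ _).1 e)
  have hτr : τ r = π ⟨r, h.r_mem⟩ := by
    show MonoidHom.transfer π r = _
    rw [MonoidHom.transfer_eq_pow π r (fun k g _ => by
      rw [mul_assoc, (Commute.pow_left (show Commute r g from (h.central g).symm) k).eq,
        inv_mul_cancel_left])]
    refine congrArg π (Subtype.ext ?_)
    show r ^ W₀.index = r
    rw [hpow2 r h.r_sq, if_neg (Nat.not_even_iff_odd.2 h.odd_index)]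
  have hr2 : π ⟨r, h.r_mem⟩ * π ⟨r, h.r_mem⟩ = 1 := by
    rw [← map_mul, ← map_one π]
    exact congrArg π (Subtype.ext h.r_sq)
  -- modulo the image of `r`
  set R := zpowers (π ⟨r, h.r_mem⟩) with hR
  haveI : R.Normal := normal_of_comm R
  let χ : ↥W₀ →* (↥W₀ ⧸ V.subgroupOf W₀) ⧸ R := (QuotientGroup.mk' R).comp π
  have hRcard : Nat.card R = 2 := by
    rw [hR, Nat.card_zpowers]
    exact orderOf_eq_prime (by rw [pow_two, hr2]) hπr
  have hQcard : Nat.card ((↥W₀ ⧸ V.subgroupOf W₀) ⧸ R) = 2 := by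
    have h1 := R.card_mul_index
    rw [hRcard, hcardA, index_eq_card] at h1
    omega
  have huniq : ∀ a b : (↥W₀ ⧸ V.subgroupOf W₀) ⧸ R, a ≠ 1 → b ≠ 1 → a = b := fun a b ha hb => by
    obtain ⟨x, -, hu⟩ := (Nat.card_eq_two_iff' (1 : (↥W₀ ⧸ V.subgroupOf W₀) ⧸ R)).1 hQcard
    exact (hu a ha).trans (hu b hb).symm
  have hχ : ∀ a : W₀, χ a = 1 → (a : W) ∈ V ∨ (a : W) * r ∈ V := by
    intro a ha
    have ha' : π a ∈ R := by
      rw [← QuotientGroup.eq_one_iff (N := R)]
      exact ha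
    obtain ⟨k, hk⟩ := mem_zpowers_iff.1 ha'
    rcases Int.even_or_odd k with ⟨m, rfl⟩ | ⟨m, rfl⟩
    · left
      rw [← hπ, ← hk, zpow_add, ← mul_zpow, hr2, one_zpow]
    · right
      have : π (a * ⟨r, h.r_mem⟩) = 1 := by
        rw [map_mul, ← hk, zpow_add, zpow_one, zpow_mul, zpow_two, hr2, one_zpow, one_mul, hr2]
      exact (hπ _).1 this
  have hwterm : ∀ g : W, ∀ hg : g⁻¹ * w * g ∈ W₀, χ ⟨_, hg⟩ ≠ 1 := by
    intro g hg e
    rcases hχ _ e with h1 | h1
    · have hne : g⁻¹ * w * g ≠ 1 := fun e' => h.w_ne (by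
        calc w = g * (g⁻¹ * w * g) * g⁻¹ := by group
          _ = 1 := by rw [e', mul_one, mul_inv_cancel])
      have h2 := h.z_conj g _ (h.z_of_mem _ h1 hne)
      rw [show g * (g⁻¹ * w * g) * g⁻¹ = w by group] at h2
      exact h.w_not h2
    · have hwr : g⁻¹ * (w * r) * g = g⁻¹ * w * g * r := by
        rw [mul_assoc, mul_assoc w, ← h.central g]; group
      have h1' : g⁻¹ * (w * r) * g ∈ V := hwr.symm ▸ (h1 : g⁻¹ * w * g * r ∈ V)
      by_cases e' : w * r = 1
      · exact h.wr_not (e' ▸ one_mem V)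
      · have hne : g⁻¹ * (w * r) * g ≠ 1 := fun e'' => e' (by
          calc w * r = g * (g⁻¹ * (w * r) * g) * g⁻¹ := by group
            _ = 1 := by rw [e'', mul_one, mul_inv_cancel])
        have h2 := h.z_conj g _ (h.z_of_mem _ h1' hne)
        rw [show g * (g⁻¹ * (w * r) * g) * g⁻¹ = w * r by group] at h2
        exact h.wr_not (h.mem_of_z _ (mul_mem h.w_mem h.r_mem) h2)
  have hχw : χ ⟨w, h.w_mem⟩ ≠ 1 := fun e => (hχ _ e).elim h.w_not' h.wr_not
  have hτw : QuotientGroup.mk' R (τ w) ≠ 1 := by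
    have hlet := W₀.fintypeQuotientOfFiniteIndex
    show QuotientGroup.mk' R (MonoidHom.transfer π w) ≠ 1
    rw [MonoidHom.transfer_eq_prod_quotient_orbitRel_zpowers_quot, map_prod,
      Finset.prod_congr rfl (fun q _ => (show _ = χ ⟨w, h.w_mem⟩ ^
        Function.minimalPeriod (w • ·) q.out from ?_)),
      Finset.prod_pow_eq_pow_sum, ← index_eq_sum_minimalPeriod W₀ w]
    · obtain ⟨m, hm⟩ := h.odd_index
      rw [hm, pow_succ, pow_mul, pow_two, ← map_mul,
        show (⟨w, h.w_mem⟩ : W₀) * ⟨w, h.w_mem⟩ = 1 from Subtype.ext h.w_sq, map_one, one_pow, one_mul]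
      exact hχw
    · have hm := QuotientGroup.out_conj_pow_minimalPeriod_mem W₀ w q.out
      show χ ⟨_, hm⟩ = _
      rcases Nat.even_or_odd (Function.minimalPeriod (w • ·) q.out) with he | ho
      · have h1 : (⟨_, hm⟩ : W₀) = 1 := Subtype.ext (by
          show q.out.out⁻¹ * w ^ Function.minimalPeriod (w • ·) q.out * q.out.out = 1
          rw [hpow2 w h.w_sq, if_pos he, mul_one, inv_mul_cancel])
        obtain ⟨m, hm'⟩ := he
        rw [h1, map_one, hm', ← two_mul, pow_mul, pow_two, ← map_mul,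
          show (⟨w, h.w_mem⟩ : W₀) * ⟨w, h.w_mem⟩ = 1 from Subtype.ext h.w_sq, map_one, one_pow]
      · have h1 : (q.out.out⁻¹ * w ^ Function.minimalPeriod (w • ·) q.out * q.out.out) =
            q.out.out⁻¹ * w * q.out.out := by
          rw [hpow2 w h.w_sq, if_neg (Nat.not_even_iff_odd.2 ho)]
        have h2 : χ ⟨_, hm⟩ = χ ⟨w, h.w_mem⟩ := by
          refine huniq _ _ ?_ hχw
          have h3 : q.out.out⁻¹ * w * q.out.out ∈ W₀ := h1 ▸ hm
          rw [show (⟨_, hm⟩ : W₀) = ⟨_, h3⟩ from Subtype.ext h1]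
          exact hwterm _ h3
        obtain ⟨m, hm'⟩ := ho
        rw [h2, hm', pow_succ, pow_mul, pow_two, ← map_mul,
          show (⟨w, h.w_mem⟩ : W₀) * ⟨w, h.w_mem⟩ = 1 from Subtype.ext h.w_sq, map_one, one_pow,
          one_mul]
  refine ⟨_, iA, τ, hcardA, ?_, ?_, ?_, hτZ⟩
  · rw [index_ker]
    have hle : R ≤ τ.range := zpowers_le.2 ⟨r, hτr⟩
    have hlt : Nat.card R < Nat.card τ.range := by
      refine lt_of_le_of_ne (card_le_of_le hle) fun e => hτw ?_
      have : τ w ∈ R := by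
        rw [eq_of_le_of_card_ge hle e.ge]
        exact ⟨w, rfl⟩
      exact (QuotientGroup.eq_one_iff _).2 this
    have hd := τ.range.card_subgroup_dvd_card
    rw [hcardA] at hd
    rw [hRcard] at hlt
    have := Nat.le_of_dvd (by norm_num) hd
    generalize Nat.card τ.range = m at *
    interval_cases m <;> omega
  · rw [hτr]; exact hπr
  · rw [hτr]; exact hr2

end PreSecond

namespace Second

variable {W : Type u} [Group W] [Finite W] {W₀ V : Subgroup W} {Z : W → Prop} {r w : W}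

/-- The possible orders, with the number of elements of the first kind and of pairs. -/
theorem cases (h : Second W₀ V Z r w) : ∃ n : ℕ,
    Nat.card {v // Z v} = n ∧
    Nat.card {p : W × W // Z p.1 ∧ p.2 * p.2 = 1 ∧ p.2 ≠ 1 ∧ ¬ Z p.2 ∧
      r ∈ zpowers (p.1 * p.2)} = n * (n - 2) ∧
    ((Nat.card W = 16 ∧ n = 3) ∨ (Nat.card W = 48 ∧ n = 3) ∨ (Nat.card W = 240 ∧ n = 15)) := by
  classical
  haveI := Fact.mk Nat.prime_two
  obtain ⟨A, _, τ, hA, hidx, hτr, hτr2, hτZ⟩ := h.exists_kernel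
  set K := τ.ker with hK
  have hKmem : ∀ x, x ∈ K ↔ τ x = 1 := fun x => MonoidHom.mem_ker
  have hW : Nat.card W = 4 * Nat.card K := by rw [← K.card_mul_index, hidx, mul_comm]
  have hW0 := W₀.card_mul_index
  rw [h.card_zero] at hW0
  obtain ⟨j, hj⟩ := h.odd_index
  have h8 : ¬ 8 ∣ Nat.card K := by
    rintro ⟨m, hm⟩
    rw [hj, hW, hm] at hW0
    omega
  have hVK : V ≤ K := fun v hv => by
    by_cases e : v = 1
    · exact e ▸ one_mem K
    · exact hτZ v (h.z_of_mem v hv e)
  have hcentK : ∀ v, Z v → Nat.card ↥(centralizer ({v} : Set W) ⊓ K) ∣ 4 := by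
    intro v hv
    have h1 := card_dvd_of_le (inf_le_left : centralizer ({v} : Set W) ⊓ K ≤ _)
    rw [h.z_cent v hv] at h1
    have h2 := card_dvd_of_le (inf_le_right : centralizer ({v} : Set W) ⊓ K ≤ K)
    obtain ⟨i, hi, e⟩ := (Nat.dvd_prime_pow Nat.prime_two (m := 4)).1 h1
    rw [e] at h2 ⊢
    have : i < 3 := by
      by_contra hlt
      exact h8 ((Nat.pow_dvd_pow 2 (not_lt.1 hlt)).trans h2)
    exact Nat.pow_dvd_pow 2 (show i ≤ 2 by omega)
  have hVeq : ∀ v ∈ V, v ≠ 1 → centralizer ({v} : Set W) ⊓ K = V := by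
    intro v hv hv1
    have hle : V ≤ centralizer ({v} : Set W) ⊓ K := fun a ha =>
      mem_inf.2 ⟨mem_centralizer_singleton_iff.2 ?_, hVK ha⟩
    refine (eq_of_le_of_card_ge hle ?_).symm
    swap
    · calc a * v = (a * v)⁻¹ := (inv_eq_of_mul_eq_one_right (h.sq _ (V.mul_mem ha hv))).symm
        _ = v * a := by rw [mul_inv_rev, inv_eq_of_mul_eq_one_right (h.sq a ha),
            inv_eq_of_mul_eq_one_right (h.sq v hv)]
    · rw [h.card_four]
      exact Nat.le_of_dvd (by norm_num) (hcentK v (h.z_of_mem v hv hv1))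
  set VK := V.subgroupOf K with hVKdef
  have hk := klein_cases (V := VK) (by
      rw [hVKdef, Nat.card_congr (Subgroup.subgroupOfEquivOfLe hVK).toEquiv, h.card_four])
    (fun a ha => Subtype.ext (h.sq _ (mem_subgroupOf.1 ha))) h8
    (fun a ha ha1 => by
      ext x
      rw [mem_centralizer_singleton_iff, hVKdef, mem_subgroupOf,
        ← hVeq a (mem_subgroupOf.1 ha) (fun e => ha1 (Subtype.ext e)), mem_inf,
        mem_centralizer_singleton_iff]
      exact ⟨fun e => ⟨congrArg Subtype.val e, x.2⟩, fun e => Subtype.ext e.1⟩)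
  -- involutions of `K` are conjugate into `V`
  have hKW : K ⊓ W₀ = V := by
    refine (eq_of_le_of_card_ge (le_inf hVK h.le) ?_).symm
    rw [h.card_four]
    have h1 := card_dvd_of_le (inf_le_right : K ⊓ W₀ ≤ W₀)
    rw [h.card_zero] at h1
    have h2 := card_dvd_of_le (inf_le_left : K ⊓ W₀ ≤ K)
    obtain ⟨i, hi, e⟩ := (Nat.dvd_prime_pow Nat.prime_two (m := 4)).1 h1
    rw [e] at h2 ⊢
    have : i < 3 := by
      by_contra hlt
      exact h8 ((Nat.pow_dvd_pow 2 (not_lt.1 hlt)).trans h2)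
    exact Nat.le_of_dvd (by norm_num) (Nat.pow_dvd_pow 2 (show i ≤ 2 by omega))
  let P : Sylow 2 W := Sylow.ofCard W₀ (by
    rw [h.card_zero, ← W₀.card_mul_index, h.card_zero, hj,
      Nat.factorization_def _ Nat.prime_two, padicValNat.mul (by norm_num) (by omega),
      show (16 : ℕ) = 2 ^ 4 by norm_num, padicValNat.prime_pow,
      padicValNat.eq_zero_of_not_dvd (by omega)])
  have hP : (P : Subgroup W) = W₀ := Sylow.coe_ofCard ..
  have hinv : ∀ x ∈ K, x * x = 1 → x ≠ 1 → ∃ g, g * x * g⁻¹ ∈ V := by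
    intro x hx hx2 hx1
    obtain ⟨Q, hQ⟩ := (IsPGroup.of_card (p := 2) (G := zpowers x) (n := 1)
      (by rw [Nat.card_zpowers, orderOf_eq_prime (by rw [pow_two, hx2]) hx1, pow_one])).exists_le_sylow
    obtain ⟨g, hg⟩ := MulAction.exists_smul_eq W Q P
    refine ⟨g, hKW ▸ ⟨?_, ?_⟩⟩
    · exact (MonoidHom.normal_ker τ).conj_mem x hx g
    · show g * x * g⁻¹ ∈ W₀
      rw [← hP, ← hg, Sylow.coe_subgroup_smul]
      exact ⟨x, hQ (mem_zpowers x), rfl⟩
  have hZiff : ∀ x, Z x ↔ x ∈ K ∧ x * x = 1 ∧ x ≠ 1 := by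
    refine fun x => ⟨fun hx => ⟨hτZ x hx, h.z_ord x hx⟩, fun ⟨hx, hx2, hx1⟩ => ?_⟩
    obtain ⟨g, hg⟩ := hinv x hx hx2 hx1
    have h2 := h.z_conj g⁻¹ _ (h.z_of_mem _ hg fun e => hx1 (conj_eq_one_iff.1 e))
    rwa [show g⁻¹ * (g * x * g⁻¹) * g⁻¹⁻¹ = x by group] at h2
  have hn : Nat.card {v // Z v} = Nat.card {x : K // orderOf x = 2} := by
    refine Nat.card_congr
      { toFun := fun v => ⟨⟨v.1, hτZ _ v.2⟩, orderOf_eq_prime (Subtype.ext (by
          push_cast; rw [pow_two]; exact (h.z_ord _ v.2).1))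
          fun e => (h.z_ord _ v.2).2 (congrArg Subtype.val e)⟩
        invFun := fun x => ⟨x.1.1, (hZiff _).2 ⟨x.1.2, by
          have := pow_orderOf_eq_one x.1
          rw [x.2, pow_two] at this
          exact congrArg Subtype.val this, fun e => by
          have := x.2
          rw [show x.1 = 1 from Subtype.ext e, orderOf_one] at this
          omega⟩⟩
        left_inv := fun v => rfl
        right_inv := fun x => rfl }
  -- partners of an element of the first kind
  have hpartner : ∀ u, Z u → {u' | Z u' ∧ u' ≠ u ∧ Commute u u'}.ncard = 2 := by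
    intro u hu
    obtain ⟨g, hg⟩ := hinv u (hτZ u hu) (h.z_ord u hu).1 (h.z_ord u hu).2
    set y := g * u * g⁻¹ with hy
    have hy1 : y ≠ 1 := fun e => (h.z_ord u hu).2 (conj_eq_one_iff.1 e)
    have himg : {u' | Z u' ∧ u' ≠ u ∧ Commute u u'} =
        (fun a => g⁻¹ * a * g) '' ((V : Set W) \ {1, y}) := by
      ext a
      simp only [Set.mem_ofPred_eq, Set.mem_image, Set.mem_sdiff, SetLike.mem_coe, Set.mem_insert_iff,
        Set.mem_singleton_iff, not_or]
      constructor
      · rintro ⟨ha, hne, hc⟩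
        refine ⟨g * a * g⁻¹, ⟨?_, fun e => (h.z_ord a ha).2 (conj_eq_one_iff.1 e),
          fun e => hne (mul_left_cancel (mul_right_cancel e))⟩, by group⟩
        rw [← hVeq y hg hy1]
        exact ⟨mem_centralizer_singleton_iff.2 ((SemiconjBy.conj_iff (a := a)).2 hc.symm),
          hτZ _ (h.z_conj g a ha)⟩
      · rintro ⟨b, ⟨hb, hb1, hby⟩, rfl⟩
        refine ⟨?_, fun e => hby ?_, ?_⟩
        · simpa using h.z_conj g⁻¹ b (h.z_of_mem b hb hb1)
        · rw [hy, ← e]; group
        · have hc : Commute y b := by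
            rw [← hVeq y hg hy1] at hb
            exact (mem_centralizer_singleton_iff.1 hb.1 : Commute b y).symm
          have := (SemiconjBy.conj_iff (a := y) (x := b) (y := b) (b := g⁻¹)).2 hc
          rwa [inv_inv, hy, show g⁻¹ * (g * u * g⁻¹) * g = u by group] at this
    rw [himg, Set.ncard_image_of_injective _ (fun a b e => mul_left_cancel (mul_right_cancel e)),
      Set.ncard_sdiff (by simp [Set.insert_subset_iff, one_mem, hg]) (Set.toFinite _),
      Set.ncard_pair hy1.symm, ← Nat.card_coe_set_eq]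
    simp only [SetLike.coe_sort_coe]
    rw [h.card_four]
  -- the pairs
  have hτpow : ∀ (a : A), a * a = 1 → ∀ k : ℤ, a ^ k = 1 ∨ a ^ k = a := by
    intro a ha k
    rcases Int.even_or_odd k with ⟨m, rfl⟩ | ⟨m, rfl⟩
    · exact .inl (by rw [zpow_add, ← mul_zpow, ha, one_zpow])
    · exact .inr (by rw [zpow_add, zpow_one, zpow_mul, zpow_two, ha, one_zpow, one_mul])
  have hrK : r ∉ K := fun e => hτr e
  have hr_iff : ∀ x ∈ K, r ∈ zpowers (x * r) ↔ Odd (orderOf x) := by
    intro x hx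
    have hc : Commute x r := h.central x
    refine ⟨fun hh => ?_, fun ho => ?_⟩
    · obtain ⟨k, hk⟩ := mem_zpowers_iff.1 hh
      rw [hc.mul_zpow] at hk
      rcases Int.even_or_odd k with ⟨m, rfl⟩ | ⟨m, rfl⟩
      · exfalso
        rw [zpow_add r, ← (Commute.refl r).mul_zpow, h.r_sq, one_zpow, mul_one] at hk
        exact hrK (hk ▸ K.zpow_mem hx _)
      · rw [zpow_add r, zpow_one, zpow_mul r, zpow_two, h.r_sq, one_zpow, one_mul] at hk
        have hd := orderOf_dvd_iff_zpow_eq_one.2 (mul_eq_right.1 hk)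
        obtain ⟨e, he⟩ := hd
        have h3 : Odd (((orderOf x : ℕ) : ℤ) * e) := he ▸ (⟨m, rfl⟩ : Odd (2 * m + 1))
        exact_mod_cast (Int.odd_mul.1 h3).1
    · refine mem_zpowers_iff.2 ⟨(orderOf x : ℕ), ?_⟩
      obtain ⟨m, hm⟩ := ho
      rw [zpow_natCast, hc.mul_pow, pow_orderOf_eq_one, one_mul, hm, pow_succ, pow_mul, pow_two,
        h.r_sq, one_pow, one_mul]
  have hpair : ∀ u v : W, (Z u ∧ v * v = 1 ∧ v ≠ 1 ∧ ¬ Z v ∧ r ∈ zpowers (u * v)) ↔
      (Z u ∧ Z (v * r) ∧ (v * r = u ∨ ¬ Commute u (v * r))) := by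
    intro u v
    have hvr : v * r * r = v := by rw [mul_assoc, h.r_sq, mul_one]
    have huv : u * v = u * (v * r) * r := by rw [mul_assoc u, hvr]
    constructor
    · rintro ⟨hu, hv2, hv1, hvZ, hr⟩
      have hτv : τ v * τ v = 1 := by rw [← map_mul, hv2, map_one]
      obtain ⟨k, hk⟩ := mem_zpowers_iff.1 hr
      have hτ : τ v = τ r := by
        have e := congrArg τ hk
        rw [map_zpow, map_mul, hτZ u hu, one_mul] at e
        rcases hτpow _ hτv k with h1 | h1 <;> rw [h1] at e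
        · exact absurd e.symm hτr
        · exact e
      have hK' : v * r ∈ K := by rw [hKmem, map_mul, hτ, hτr2]
      have hsq : v * r * (v * r) = 1 := by
        rw [(show Commute r v from (h.central v).symm).mul_mul_mul_comm, hv2, h.r_sq, one_mul]
      rw [huv, hr_iff _ (K.mul_mem (hτZ u hu) hK')] at hr
      by_cases e1 : v * r = 1
      · rw [e1, mul_one, orderOf_eq_prime (by rw [pow_two]; exact (h.z_ord u hu).1)
          (h.z_ord u hu).2] at hr
        exact absurd hr (by decide)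
      refine ⟨hu, (hZiff _).2 ⟨hK', hsq, e1⟩, or_iff_not_imp_left.2 fun hne hc => ?_⟩
      have ho : orderOf (u * (v * r)) = 2 := orderOf_eq_prime (by
          rw [pow_two, hc.symm.mul_mul_mul_comm, (h.z_ord u hu).1, hsq, one_mul])
        (fun e => hne ((inv_eq_of_mul_eq_one_right e).symm.trans
          (inv_eq_of_mul_eq_one_right (h.z_ord u hu).1)))
      rw [ho] at hr
      exact absurd hr (by decide)
    · rintro ⟨hu, hvr', hor⟩
      obtain ⟨hK', hsq, -⟩ := (hZiff _).1 hvr'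
      have hv2 : v * v = 1 := by
        rw [← hvr]
        calc v * r * r * (v * r * r) = (v * r) * (r * (v * r)) * r := by simp only [mul_assoc]
          _ = 1 := by rw [← h.central (v * r), ← mul_assoc (v * r), hsq, one_mul, h.r_sq]
      have hvK : v ∉ K := fun e => hrK (by
        rw [show r = v⁻¹ * (v * r) by group]; exact K.mul_mem (K.inv_mem e) hK')
      refine ⟨hu, hv2, fun e => hvK (e ▸ one_mem K), fun e => hvK (hτZ v e), ?_⟩
      rw [huv, hr_iff _ (K.mul_mem (hτZ u hu) hK')]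
      rcases hor with e | hnc
      · rw [e, (h.z_ord u hu).1, orderOf_one]
        exact odd_one
      rw [← Nat.not_even_iff_odd]
      intro hev
      -- a central involution of the dihedral group
      set x := u * (v * r) with hx
      have hinvx : u * x * u⁻¹ = x⁻¹ := by
        rw [hx, mul_inv_rev, inv_eq_of_mul_eq_one_right hsq,
          inv_eq_of_mul_eq_one_right (h.z_ord u hu).1, ← mul_assoc u u, (h.z_ord u hu).1, one_mul]
      obtain ⟨m, hm⟩ := hev
      have hpos : 0 < m := by have := orderOf_pos x; omega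
      set w₀ := x ^ m with hw₀
      have hw2 : w₀ * w₀ = 1 := by rw [hw₀, ← pow_add, ← hm, pow_orderOf_eq_one]
      have hw1 : w₀ ≠ 1 := pow_ne_one_of_lt_orderOf hpos.ne' (by omega)
      have huw : Commute u w₀ := by
        have := Involution.inverts_pow hinvx m
        rw [← hw₀, inv_eq_of_mul_eq_one_right hw2] at this
        exact mul_inv_eq_iff_eq_mul.1 this
      have hvw : Commute (v * r) w₀ := by
        have hxw : Commute x w₀ := Commute.self_pow x m
        have hv' : v * r = u * x := by rw [hx, ← mul_assoc, (h.z_ord u hu).1, one_mul]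
        rw [hv']
        exact huw.mul_left hxw
      obtain ⟨g, hg⟩ := hinv w₀ (K.pow_mem (K.mul_mem (hτZ u hu) hK') m) hw2 hw1
      have hy1 : g * w₀ * g⁻¹ ≠ 1 := fun e => hw1 (conj_eq_one_iff.1 e)
      have hin : ∀ a, a ∈ K → Commute a w₀ → g * a * g⁻¹ ∈ V := fun a ha hc => by
        rw [← hVeq _ hg hy1]
        exact ⟨mem_centralizer_singleton_iff.2 ((SemiconjBy.conj_iff (a := a)).2 hc),
          (MonoidHom.normal_ker τ).conj_mem a ha g⟩
      have ha := hin u (hτZ u hu) huw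
      have hb := hin _ hK' hvw
      refine hnc ((SemiconjBy.conj_iff (a := u) (b := g)).1 ?_)
      calc g * u * g⁻¹ * (g * (v * r) * g⁻¹)
          = (g * u * g⁻¹ * (g * (v * r) * g⁻¹))⁻¹ :=
            (inv_eq_of_mul_eq_one_right (h.sq _ (V.mul_mem ha hb))).symm
        _ = g * (v * r) * g⁻¹ * (g * u * g⁻¹) := by
            rw [mul_inv_rev, inv_eq_of_mul_eq_one_right (h.sq _ ha),
              inv_eq_of_mul_eq_one_right (h.sq _ hb)]
  haveI := Fintype.ofFinite {v // Z v}
  have hcount : Nat.card {p : W × W // Z p.1 ∧ Z p.2 ∧ (p.2 = p.1 ∨ ¬ Commute p.1 p.2)} =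
      Nat.card {v // Z v} * (Nat.card {v // Z v} - 2) := by
    have e : {p : W × W // Z p.1 ∧ Z p.2 ∧ (p.2 = p.1 ∨ ¬ Commute p.1 p.2)} ≃
        Σ u : {v // Z v}, {u' // Z u' ∧ (u' = u.1 ∨ ¬ Commute u.1 u')} :=
      { toFun := fun p => ⟨⟨p.1.1, p.2.1⟩, ⟨p.1.2, p.2.2⟩⟩
        invFun := fun p => ⟨(p.1.1, p.2.1), p.1.2, p.2.2⟩
        left_inv := fun p => rfl
        right_inv := fun p => rfl }
    rw [Nat.card_congr e, Nat.card_sigma]
    have hfib : ∀ u : {v // Z v}, Nat.card {u' // Z u' ∧ (u' = u.1 ∨ ¬ Commute u.1 u')} =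
        Nat.card {v // Z v} - 2 := by
      intro u
      rw [← hpartner u.1 u.2, show Nat.card {v // Z v} = {v | Z v}.ncard from Nat.card_coe_set_eq _,
        ← Set.ncard_sdiff (fun a ha => ha.1) (Set.toFinite _), ← Nat.card_coe_set_eq]
      refine Nat.card_congr (Equiv.subtypeEquivRight fun a => ?_)
      simp only [Set.mem_sdiff, Set.mem_ofPred_eq, not_and_or, not_not]
      tauto
    rw [Finset.sum_congr rfl (fun u _ => hfib u), Finset.sum_const, Finset.card_univ, smul_eq_mul,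
      Nat.card_eq_fintype_card]
  refine ⟨Nat.card {v // Z v}, rfl, ?_, ?_⟩
  · rw [← hcount]
    refine Nat.card_congr
      { toFun := fun p => ⟨(p.1.1, p.1.2 * r), (hpair _ _).1 p.2⟩
        invFun := fun p => ⟨(p.1.1, p.1.2 * r), (hpair _ _).2 (by
          rw [mul_assoc, h.r_sq, mul_one]; exact p.2)⟩
        left_inv := fun p => Subtype.ext (Prod.ext rfl (by
          show p.1.2 * r * r = p.1.2
          rw [mul_assoc, h.r_sq, mul_one]))
        right_inv := fun p => Subtype.ext (Prod.ext rfl (by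
          show p.1.2 * r * r = p.1.2
          rw [mul_assoc, h.r_sq, mul_one])) }
  · rw [hn, hW]
    rcases hk with ⟨h1, h2⟩ | ⟨h1, h2⟩ | ⟨h1, h2⟩
    · exact .inl ⟨by rw [h1], h2⟩
    · exact .inr (.inl ⟨by rw [h1], h2⟩)
    · exact .inr (.inr ⟨by rw [h1], h2⟩)

end Second

end Cfsg.Agent.TwelveCent
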