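import Cfsg.Agent.Lib.TwelveCent.Fusion
import Cfsg.Agent.Lib.TwelveCent.Transfer
import Cfsg.Agent.S0213

/-
The centraliser of the second involution and the order formula.

* `exists_second`, `cent_three_le`, `order_cases`
-/

set_option autoImplicit false
set_option linter.unusedSectionVars false

open Cfsg Subgroup

namespace Cfsg.Agent.TwelveCent

variable {G : Type*} [Group G] [Finite G] [IsSimpleGroup G] {z : G}

/-- `r` is in the second class and every involution is conjugate to `z` or to `r`. -/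
structure Two (z r : G) : Prop where
  r_typ : Typ z 16 r
  hall : ∀ t : G, orderOf t = 2 → IsConj z t ∨ IsConj r t

namespace Coding

variable (c : Coding z) (hna : ¬ IsMulCommutative G)

include c

theorem sylow_second {r : G} (hr : Typ z 16 r) :
    Odd ((pcent z r).subgroupOf (centralizer ({r} : Set G))).index := by
  classical
  haveI := Fact.mk Nat.prime_two
  set W := centralizer ({r} : Set G) with hW
  have hle : pcent z r ≤ W := inf_le_right
  set W₀ := (pcent z r).subgroupOf W with hW₀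
  have hcard : Nat.card W₀ = 16 := by
    rw [hW₀, Nat.card_congr (subgroupOfEquivOfLe hle).toEquiv, hr.2.2.2]
  obtain ⟨P, hP⟩ := (IsPGroup.of_card (p := 2) (n := 4) (by rw [hcard]; norm_num)).exists_le_sylow
  suffices h : W₀ = (P : Subgroup W) by
    rw [h, ← Nat.not_even_iff_odd, even_iff_two_dvd]
    exact P.not_dvd_index
  refine (lt_or_eq_of_le hP).resolve_left fun hlt => ?_
  haveI : Group.IsNilpotent (P : Subgroup W) := P.isPGroup'.isNilpotent
  have hne : W₀.subgroupOf (P : Subgroup W) < ⊤ :=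
    lt_top_iff_ne_top.2 fun e => hlt.ne (le_antisymm hP (subgroupOf_eq_top.1 e))
  obtain ⟨⟨g, hgP⟩, hg, hgS⟩ :=
    SetLike.exists_of_lt (Group.normalizerCondition_of_isNilpotent _ hne)
  have hgn : ∀ x ∈ pcent z r, (g : G) * x * (g : G)⁻¹ ∈ pcent z r := fun x hx =>
    (mem_normalizer_iff.1 hg ⟨⟨x, hle hx⟩, hP hx⟩).1 hx
  obtain ⟨a, b, ha, har, hb, hbr, hab⟩ := c.r_comm_exists hr
  obtain ⟨ha1, ha2⟩ := mem_pcent.1 (hgn a (mem_pcent.2 ⟨ha, har⟩))
  obtain ⟨hb1, hb2⟩ := mem_pcent.1 (hgn b (mem_pcent.2 ⟨hb, hbr⟩))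
  have hab' : (g : G) * a * (g : G)⁻¹ * ((g : G) * b * (g : G)⁻¹) =
      (g : G) * z * (g : G)⁻¹ * ((g : G) * b * (g : G)⁻¹ * ((g : G) * a * (g : G)⁻¹)) := by
    rw [conj_mul, conj_mul, conj_mul, hab]
  have hgz : Commute (g : G) z := by
    rcases c.r_comm hr ha1 ha2 hb1 hb2 with e | e <;> rw [e] at hab'
    · exact absurd (conj_eq_one_iff.1 (mul_eq_right.1 hab'.symm)) (Involution.ne_one c.z_ord)
    · exact mul_inv_eq_iff_eq_mul.1 (mul_right_cancel hab').symm
  exact hgS (show g ∈ W₀ from mem_pcent.2 ⟨hgz, mem_centralizer_singleton_iff.1 g.2⟩)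

include hna in
/-- The centraliser of `r` satisfies the hypotheses of the transfer argument. -/
theorem exists_second {r : G} (hr : Typ z 16 r) :
    ∃ (V : Subgroup (centralizer ({r} : Set G))) (w : centralizer ({r} : Set G)),
      Second ((pcent z r).subgroupOf (centralizer ({r} : Set G))) V
        (fun v => IsConj z (v : G)) ⟨r, mem_centralizer_singleton_iff.2 rfl⟩ w := by
  classical
  set W := centralizer ({r} : Set G) with hW
  have hWc : ∀ g : W, Commute (g : G) r := fun g => mem_centralizer_singleton_iff.1 g.2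
  obtain ⟨h3, h8⟩ := c.r_inv_count hr
  set S := {x | Commute x z ∧ Commute x r ∧ orderOf x = 2 ∧ ¬ Typ z 16 x} with hS
  have hzS : z ∈ S := ⟨Commute.refl z, hr.1.symm, c.z_ord, fun h => h.2.2.1 rfl⟩
  obtain ⟨p, hp, hpz⟩ : ∃ p ∈ S, p ≠ z := Set.exists_ne_of_one_lt_ncard (by omega) z
  have hpP : Typ z 32 p := by
    rcases c.r_inv hr hp.1 hp.2.1 hp.2.2.1 with h | h | h
    exacts [absurd h hpz, h, absurd h hp.2.2.2]
  have hzp := c.z_mul_p hpP
  have hzpS : z * p ∈ S := ⟨hzp.1, hr.1.symm.mul_left hp.2.1, hzp.2.1, fun h => by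
    have := hzp.2.2.2; rw [h.2.2.2] at this; omega⟩
  have hzpp : z * p ≠ p := fun e => Involution.ne_one c.z_ord (mul_eq_right.1 e)
  have hSeq : S = {z, p, z * p} := by
    refine (Set.eq_of_subset_of_ncard_le (by simp [Set.insert_subset_iff, hzS, hp, hzpS]) ?_).symm
    rw [h3, Set.ncard_eq_three.2 ⟨z, p, z * p, hpz.symm, fun e => hzp.2.2.1 e.symm, hzpp.symm, rfl⟩]
  have hz2 := Involution.mul_self c.z_ord
  have hp2 := Involution.mul_self hp.2.2.1
  let M : Submonoid G :=
    { carrier := {a | a = 1 ∨ a = z ∨ a = p ∨ a = z * p}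
      one_mem' := .inl rfl
      mul_mem' := by
        have hzl : z * (z * p) = p := by rw [← mul_assoc, hz2, one_mul]
        have hpl : p * (z * p) = z := by rw [← mul_assoc, hp.1.eq, mul_assoc, hp2, mul_one]
        have hzr : z * p * z = p := by rw [mul_assoc, hp.1.eq, hzl]
        have hpr : z * p * p = z := by rw [mul_assoc, hp2, mul_one]
        rintro a b (rfl | rfl | rfl | rfl) (rfl | rfl | rfl | rfl)
        all_goals simp only [Set.mem_ofPred_eq, one_mul, mul_one, hz2, hp2, hzl, hpl, hzr, hpr,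
          hp.1.eq, Involution.mul_self hzp.2.1]
        all_goals simp }
  have hMiff : ∀ a, a ∈ M ↔ a = 1 ∨ a ∈ S := fun a => by
    rw [hSeq]
    exact Iff.rfl
  have hsq : ∀ a ∈ M, a * a = 1 := fun a ha => by
    rcases (hMiff a).1 ha with h | h
    · rw [h, mul_one]
    · exact Involution.mul_self h.2.2.1
  let V₀ : Subgroup G :=
    { M with
      inv_mem' := fun {a} ha => by
        rw [inv_eq_of_mul_eq_one_right (hsq a ha)]
        exact ha }
  have hViff : ∀ a, a ∈ V₀ ↔ a = 1 ∨ a ∈ S := hMiff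
  have hVle : V₀ ≤ pcent z r := fun a ha => by
    rcases (hViff a).1 ha with h | h
    · exact h ▸ one_mem _
    · exact mem_pcent.2 ⟨h.1, h.2.1⟩
  have hV4 : Nat.card V₀ = 4 := by
    have : (V₀ : Set G) = insert 1 S := Set.ext fun a => (hViff a).trans Iff.rfl
    show Nat.card ↥(V₀ : Set G) = 4
    rw [Nat.card_coe_set_eq, this, Set.ncard_insert_of_notMem
      (fun h : (1 : G) ∈ S => Involution.ne_one h.2.2.1 rfl), h3]
  have hVtyp : ∀ a ∈ V₀, ¬ Typ z 16 a := fun a ha h => by
    rcases (hViff a).1 ha with e | e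
    · exact Involution.ne_one h.2.1 e
    · exact e.2.2.2 h
  -- an element outside
  obtain ⟨w, hwR, hwr⟩ : ∃ w ∈ {x | Commute x z ∧ Commute x r ∧ Typ z 16 x}, w * r ∉ V₀ := by
    by_contra hcon
    push Not at hcon
    have hsub : {x | Commute x z ∧ Commute x r ∧ Typ z 16 x} ⊆ (· * r) '' (V₀ : Set G) :=
      fun x hx => ⟨x * r, hcon x hx, by
        show x * r * r = x
        rw [mul_assoc, Involution.mul_self hr.2.1, mul_one]⟩
    have := (Set.ncard_le_ncard hsub (Set.toFinite _)).trans (Set.ncard_image_le (Set.toFinite _))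
    rw [h8, ← Nat.card_coe_set_eq] at this
    simp only [SetLike.coe_sort_coe] at this
    omega
  have hle : pcent z r ≤ W := inf_le_right
  refine ⟨V₀.subgroupOf W, ⟨w, mem_centralizer_singleton_iff.2 hwR.2.1⟩,
    { central := fun g => Subtype.ext (hWc g).eq
      r_sq := Subtype.ext (Involution.mul_self hr.2.1)
      r_mem := mem_pcent.2 ⟨hr.1, Commute.refl r⟩
      card_zero := by rw [Nat.card_congr (subgroupOfEquivOfLe hle).toEquiv, hr.2.2.2]
      odd_index := c.sylow_second hr
      le := fun a ha => hVle ha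
      card_four := by rw [Nat.card_congr (subgroupOfEquivOfLe (hVle.trans hle)).toEquiv, hV4]
      sq := fun a ha => Subtype.ext (hsq _ ha)
      r_not := fun h => hVtyp r h hr
      z_of_mem := fun v hv hv1 => by
        rcases (hViff _).1 hv with h | h
        · exact absurd (Subtype.ext h) hv1
        · exact (c.conj_z_iff hna h.1 h.2.2.1).2 h.2.2.2
      mem_of_z := fun v hv hz => by
        have ho := (Involution.orderOf_eq_of_isConj hz).symm.trans c.z_ord
        have hv' := mem_pcent.1 (mem_subgroupOf.1 hv)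
        exact (hViff _).2 (.inr ⟨hv'.1, hv'.2, ho, (c.conj_z_iff hna hv'.1 ho).1 hz⟩)
      z_conj := fun g v hz => hz.trans (isConj_iff.2 ⟨(g : G), rfl⟩)
      z_ord := fun v hz => by
        have ho := (Involution.orderOf_eq_of_isConj hz).symm.trans c.z_ord
        exact ⟨Subtype.ext (Involution.mul_self ho), fun e =>
          Involution.ne_one ho (congrArg Subtype.val e)⟩
      z_cent := fun v hz => by
        obtain ⟨g, hg⟩ := isConj_iff.1 hz.symm
        set r' := g * r * g⁻¹ with hr'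
        have hrz : Commute r' z := hg ▸ SemiconjBy.conj_iff.2 (hWc v).symm
        have hr2 : orderOf r' = 2 := by rw [hr', Involution.orderOf_conj, hr.2.1]
        have htyp : Typ z 16 r' := by
          by_contra h
          exact c.not_conj_r hr (((c.conj_z_iff hna hrz hr2).2 h).trans
            (isConj_iff.2 ⟨g, rfl⟩ : IsConj r r').symm)
        rw [← htyp.2.2.2, hr', ← hg, card_pcent_conj]
        refine Nat.card_congr
          { toFun := fun a => ⟨(a.1 : G), mem_pcent.2
              ⟨congrArg Subtype.val (mem_centralizer_singleton_iff.1 a.2), hWc a.1⟩⟩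
            invFun := fun a => ⟨⟨a.1, mem_centralizer_singleton_iff.2 (mem_pcent.1 a.2).2⟩,
              mem_centralizer_singleton_iff.2 (Subtype.ext (mem_pcent.1 a.2).1)⟩
            left_inv := fun a => rfl
            right_inv := fun a => rfl }
      w_mem := mem_pcent.2 ⟨hwR.1, hwR.2.1⟩
      w_sq := Subtype.ext (Involution.mul_self hwR.2.2.2.1)
      w_not := c.not_conj_r hwR.2.2
      w_not' := fun h => hVtyp w h hwR.2.2
      wr_not := hwr }⟩

include hna in
/-- The possible orders of `G`, with the order of the centraliser of `r`. -/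
theorem order_cases {r : G} (h : Two z r) :
    (Nat.card G = 4416 ∧ Nat.card (centralizer ({r} : Set G)) = 16) ∨
      (Nat.card G = 12096 ∧ Nat.card (centralizer ({r} : Set G)) = 48) ∨ Nat.card G = 95040 := by
  classical
  have hr := h.r_typ
  have hzr : ¬ IsConj z r := c.not_conj_r hr
  set W := centralizer ({r} : Set G) with hW
  obtain ⟨V, w, hsec⟩ := c.exists_second hna hr
  obtain ⟨n, -, hpairs, hcases⟩ := hsec.cases
  have hrclass : ∀ v, IsConj r v ↔ orderOf v = 2 ∧ ¬ IsConj z v := fun v =>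
    ⟨fun hv => ⟨(Involution.orderOf_eq_of_isConj hv).symm.trans hr.2.1,
      fun hz => hzr (hz.trans hv.symm)⟩, fun hv => (h.hall v hv.1).resolve_left hv.2⟩
  have hin : ∀ (u v i : G), orderOf u = 2 → orderOf v = 2 → orderOf i = 2 →
      i ∈ zpowers (u * v) → Commute u i ∧ Commute v i := by
    intro u v i hu hv hi hmem
    obtain ⟨k, hk⟩ := mem_zpowers_iff.1 hmem
    have hinv : u * (u * v) * u⁻¹ = (u * v)⁻¹ := by
      rw [Involution.inv_eq hu, mul_inv_rev, Involution.inv_eq hu, Involution.inv_eq hv,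
        ← mul_assoc u u, Involution.mul_self hu, one_mul]
    have hu' : Commute u i := by
      have := Involution.inverts_zpow hinv k
      rw [hk, Involution.inv_eq hi] at this
      exact mul_inv_eq_iff_eq_mul.1 this
    refine ⟨hu', ?_⟩
    have huv : Commute (u * v) i := hk ▸ Commute.self_zpow (u * v) k
    have := hu'.mul_left huv
    rwa [← mul_assoc, Involution.mul_self hu, one_mul] at this
  have hn₁ : Nat.card {p : G × G // IsConj z p.1 ∧ IsConj r p.2 ∧ z ∈ zpowers (p.1 * p.2)} = 240 := by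
    rw [← c.pairs, ← Nat.card_coe_set_eq]
    refine Nat.card_congr (Equiv.subtypeEquivRight fun p => ?_)
    rw [Set.mem_ofPred_eq, hrclass]
    constructor
    · rintro ⟨hu, ⟨hv, hvz⟩, hz⟩
      have hu2 := (Involution.orderOf_eq_of_isConj hu).symm.trans c.z_ord
      obtain ⟨h1, h2⟩ := hin _ _ _ hu2 hv c.z_ord hz
      exact ⟨h1, hu2, (c.conj_z_iff hna h1 hu2).1 hu,
        not_not.1 fun e => hvz ((c.conj_z_iff hna h2 hv).2 e), hz⟩
    · rintro ⟨h1, hu2, hnr, hv, hz⟩
      exact ⟨(c.conj_z_iff hna h1 hu2).2 hnr, ⟨hv.2.1, c.not_conj_r hv⟩, hz⟩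
  have hn₂ : Nat.card {p : G × G // IsConj z p.1 ∧ IsConj r p.2 ∧ r ∈ zpowers (p.1 * p.2)} =
      n * (n - 2) := by
    rw [← hpairs]
    have hord : ∀ {v : G}, orderOf v = 2 → ∀ hv : v ∈ W,
        (⟨v, hv⟩ : W) * ⟨v, hv⟩ = 1 ∧ (⟨v, hv⟩ : W) ≠ 1 := fun {v} h2 hv =>
      ⟨Subtype.ext (Involution.mul_self h2),
        fun e => Involution.ne_one h2 (congrArg Subtype.val e)⟩
    have hmemz : ∀ (x : W), (⟨r, mem_centralizer_singleton_iff.2 rfl⟩ : W) ∈ zpowers x ↔
        r ∈ zpowers (x : G) := fun x => by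
      refine ⟨fun hh => ?_, fun hh => ?_⟩ <;> obtain ⟨k, hk⟩ := mem_zpowers_iff.1 hh
      · exact mem_zpowers_iff.2 ⟨k, by simpa using congrArg Subtype.val hk⟩
      · exact mem_zpowers_iff.2 ⟨k, Subtype.ext (by simpa using hk)⟩
    have hcomm : ∀ p : G × G, IsConj z p.1 ∧ IsConj r p.2 ∧ r ∈ zpowers (p.1 * p.2) →
        p.1 ∈ W ∧ p.2 ∈ W := fun p hp => by
      obtain ⟨h1, h2⟩ := hin p.1 p.2 r ((Involution.orderOf_eq_of_isConj hp.1).symm.trans c.z_ord)
        ((hrclass _).1 hp.2.1).1 hr.2.1 hp.2.2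
      exact ⟨mem_centralizer_singleton_iff.2 h1, mem_centralizer_singleton_iff.2 h2⟩
    refine Nat.card_congr
      { toFun := fun p => ⟨(⟨p.1.1, (hcomm _ p.2).1⟩, ⟨p.1.2, (hcomm _ p.2).2⟩),
          p.2.1, (hord ((hrclass _).1 p.2.2.1).1 _).1, (hord ((hrclass _).1 p.2.2.1).1 _).2,
          ((hrclass _).1 p.2.2.1).2, (hmemz _).2 p.2.2.2⟩
        invFun := fun p => ⟨((p.1.1 : G), (p.1.2 : G)), p.2.1, (hrclass _).2
          ⟨Involution.orderOf_of_sq (congrArg Subtype.val p.2.2.1)
            (fun e => p.2.2.2.1 (Subtype.ext e)), p.2.2.2.2.1⟩, (hmemz _).1 p.2.2.2.2.2⟩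
        left_inv := fun p => rfl
        right_inv := fun p => rfl }
  have hformula := S0213.result z r c.z_ord hr.2.1 hzr h.hall
  rw [hn₁, hn₂, c.cent_card, ← hW] at hformula
  rcases hcases with ⟨h1, rfl⟩ | ⟨h1, rfl⟩ | ⟨h1, rfl⟩ <;> rw [h1] at hformula ⊢ <;> omega

include hna in
/-- An element of order three centralised by `r` has a centraliser in `C(r)` without subgroups of
order eight. -/
theorem not_eight_dvd_three {r b : G} (hr : Typ z 16 r) (hb : Commute b r) (h3 : orderOf b = 3) :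
    ¬ 8 ∣ Nat.card ↥(centralizer ({r} : Set G) ⊓ centralizer ({b} : Set G)) := by
  classical
  intro h8
  haveI := Fact.mk Nat.prime_two
  set W := centralizer ({r} : Set G) with hW
  obtain ⟨V, w, hsec⟩ := c.exists_second hna hr
  let b' : W := ⟨b, mem_centralizer_singleton_iff.2 hb⟩
  have hcard : Nat.card ↥(W ⊓ centralizer ({b} : Set G)) = Nat.card (centralizer ({b'} : Set W)) :=
    Nat.card_congr
      { toFun := fun a => ⟨⟨a.1, a.2.1⟩,
          mem_centralizer_singleton_iff.2 (Subtype.ext (mem_centralizer_singleton_iff.1 a.2.2))⟩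
        invFun := fun a => ⟨(a.1 : G), a.1.2,
          mem_centralizer_singleton_iff.2 (congrArg Subtype.val (mem_centralizer_singleton_iff.1 a.2))⟩
        left_inv := fun a => rfl
        right_inv := fun a => rfl }
  rw [hcard] at h8
  set W₀ := (pcent z r).subgroupOf W with hW₀
  obtain ⟨D, hD⟩ := Sylow.exists_subgroup_card_pow_prime 2 (n := 3)
    (G := centralizer ({b'} : Set W)) (by simpa using h8)
  set D' := D.map (centralizer ({b'} : Set W)).subtype with hD'
  have hD'8 : Nat.card D' = 8 := by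
    rw [hD', card_map_of_injective (subtype_injective _), hD]; norm_num
  obtain ⟨Q, hQ⟩ := (IsPGroup.of_card (p := 2) (n := 3) (by rw [hD'8]; norm_num) :
    IsPGroup 2 D').exists_le_sylow
  have hW0card := hsec.card_zero
  let P : Sylow 2 W := Sylow.ofCard W₀ (by
    have hi := hsec.odd_index
    rw [Nat.odd_iff] at hi
    rw [hW0card, ← W₀.card_mul_index, hW0card,
      Nat.factorization_def _ Nat.prime_two, padicValNat.mul (by norm_num) (by omega),
      show (16 : ℕ) = 2 ^ 4 by norm_num, padicValNat.prime_pow,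
      padicValNat.eq_zero_of_not_dvd (by omega)])
  have hP : (P : Subgroup W) = W₀ := Sylow.coe_ofCard ..
  obtain ⟨g, hg⟩ := MulAction.exists_smul_eq W Q P
  have hconj : ∀ x ∈ D', g * x * g⁻¹ ∈ W₀ := fun x hx => by
    rw [← hP, ← hg, Sylow.coe_subgroup_smul]
    exact ⟨x, hQ hx, rfl⟩
  -- the product map is injective
  have hinj : Function.Injective (fun p : D' × V =>
      (⟨g * (p.1 : W) * g⁻¹ * (p.2 : W), W₀.mul_mem (hconj _ p.1.2) (hsec.le p.2.2)⟩ : W₀)) := by
    rintro ⟨d, v⟩ ⟨d', v'⟩ e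
    have e' : g * (d : W) * g⁻¹ * (v : W) = g * (d' : W) * g⁻¹ * (v' : W) := congrArg Subtype.val e
    have e'' : g * ((d' : W)⁻¹ * d) * g⁻¹ = (v' : W) * (v : W)⁻¹ := by
      calc g * ((d' : W)⁻¹ * d) * g⁻¹
          = (g * d' * g⁻¹)⁻¹ * (g * (d : W) * g⁻¹ * v) * (v : W)⁻¹ := by group
        _ = (g * d' * g⁻¹)⁻¹ * (g * (d' : W) * g⁻¹ * v') * (v : W)⁻¹ := by rw [e']
        _ = (v' : W) * (v : W)⁻¹ := by group
    by_cases h1 : (d' : W)⁻¹ * d = 1
    · have hd : d' = d := Subtype.ext (inv_mul_eq_one.1 h1)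
      subst hd
      exact Prod.ext rfl (Subtype.ext (mul_left_cancel e'))
    exfalso
    set x := (d' : W)⁻¹ * d with hx
    have hxD : x ∈ D' := D'.mul_mem (D'.inv_mem d'.2) d.2
    have hxV : g * x * g⁻¹ ∈ V := e'' ▸ V.mul_mem v'.2 (V.inv_mem v.2)
    have hZx := hsec.z_conj g⁻¹ _ (hsec.z_of_mem _ hxV fun e => h1 (conj_eq_one_iff.1 e))
    rw [show g⁻¹ * (g * x * g⁻¹) * g⁻¹⁻¹ = x by group] at hZx
    have hb3 : orderOf b' ∣ Nat.card (centralizer ({x} : Set W)) := by
      refine Subgroup.orderOf_dvd_natCard _ (mem_centralizer_singleton_iff.2 ?_)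
      obtain ⟨y, -, hy⟩ := hxD
      rw [← hy]
      exact (mem_centralizer_singleton_iff.1 y.2).symm
    rw [hsec.z_cent x hZx, ← Subgroup.orderOf_coe] at hb3
    rw [show ((b' : W) : G) = b from rfl, h3] at hb3
    omega
  have := Nat.card_le_card_of_injective _ hinj
  rw [Nat.card_prod, hD'8, hsec.card_four, hW0card] at this
  omega

end Coding

end Cfsg.Agent.TwelveCent
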